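import Cfsg.Agent.Lib.Compute.SB.InvData
import Cfsg.Agent.Lib.Compute.SB.Chunk

/-!
# The parities of the types for a column of `M24` over all the involutions
-/

set_option autoImplicit false
set_option Elab.async false
set_option maxRecDepth 100000

namespace Cfsg.Agent.Lib.Compute.SB

open PTree

/-- The element for the column. -/
def y24x11 : ℕ := nat_lit 417235164352235318987254495804758095

theorem bx11c0 : xorG (colF tauF y24x11) iv0 0 = 2017840 := by decide +kernel
theorem bx11c1 : xorG (colF tauF y24x11) iv1 0 = 1814304 := by decide +kernel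
theorem bx11c2 : xorG (colF tauF y24x11) iv2 0 = 274800 := by decide +kernel
theorem bx11c3 : xorG (colF tauF y24x11) iv3 0 = 1645696 := by decide +kernel
theorem bx11c4 : xorG (colF tauF y24x11) iv4 0 = 806208 := by decide +kernel
theorem bx11c5 : xorG (colF tauF y24x11) iv5 0 = 2072736 := by decide +kernel
theorem bx11c6 : xorG (colF tauF y24x11) iv6 0 = 1593856 := by decide +kernel
theorem bx11c7 : xorG (colF tauF y24x11) iv7 0 = 90016 := by decide +kernel
theorem bx11c8 : xorG (colF tauF y24x11) iv8 0 = 139936 := by decide +kernel
theorem bx11c9 : xorG (colF tauF y24x11) iv9 0 = 1925608 := by decide +kernel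
theorem bx11c10 : xorG (colF tauF y24x11) iv10 0 = 768272 := by decide +kernel
theorem bx11c11 : xorG (colF tauF y24x11) iv11 0 = 22144 := by decide +kernel
theorem bx11c12 : xorG (colF tauF y24x11) iv12 0 = 284704 := by decide +kernel
theorem bx11c13 : xorG (colF tauF y24x11) iv13 0 = 450880 := by decide +kernel
theorem bx11c14 : xorG (colF tauF y24x11) iv14 0 = 1559248 := by decide +kernel
theorem bx11c15 : xorG (colF tauF y24x11) iv15 0 = 138656 := by decide +kernel
theorem bx11c16 : xorG (colF tauF y24x11) iv16 0 = 2028032 := by decide +kernel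
theorem bx11c17 : xorG (colF tauF y24x11) iv17 0 = 1846496 := by decide +kernel
theorem bx11c18 : xorG (colF tauF y24x11) iv18 0 = 201936 := by decide +kernel
theorem bx11c19 : xorG (colF tauF y24x11) iv19 0 = 589840 := by decide +kernel
theorem bx11c20 : xorG (colF tauF y24x11) iv20 0 = 454112 := by decide +kernel
theorem bx11c21 : xorG (colF tauF y24x11) iv21 0 = 1410368 := by decide +kernel
theorem bx11c22 : xorG (colF tauF y24x11) iv22 0 = 563696 := by decide +kernel
theorem bx11c23 : xorG (colF tauF y24x11) iv23 0 = 1974800 := by decide +kernel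
theorem bx11c24 : xorG (colF tauF y24x11) iv24 0 = 8512 := by decide +kernel
theorem bx11c25 : xorG (colF tauF y24x11) iv25 0 = 688112 := by decide +kernel
theorem bx11c26 : xorG (colF tauF y24x11) iv26 0 = 1181440 := by decide +kernel
theorem bx11c27 : xorG (colF tauF y24x11) iv27 0 = 1708952 := by decide +kernel
theorem bx11c28 : xorG (colF tauF y24x11) iv28 0 = 1023200 := by decide +kernel
theorem bx11c29 : xorG (colF tauF y24x11) iv29 0 = 252032 := by decide +kernel
theorem bx11c30 : xorG (colF tauF y24x11) iv30 0 = 1303200 := by decide +kernel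
theorem bx11c31 : xorG (colF tauF y24x11) iv31 0 = 412448 := by decide +kernel
theorem bx11c32 : xorG (colF tauF y24x11) iv32 0 = 6176 := by decide +kernel
theorem bx11c33 : xorG (colF tauF y24x11) iv33 0 = 411680 := by decide +kernel
theorem bx11c34 : xorG (colF tauF y24x11) iv34 0 = 1462272 := by decide +kernel
theorem bx11c35 : xorG (colF tauF y24x11) iv35 0 = 2014280 := by decide +kernel
theorem bx11c36 : xorG (colF tauF y24x11) iv36 0 = 81856 := by decide +kernel
theorem bx11c37 : xorG (colF tauF y24x11) iv37 0 = 415008 := by decide +kernel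
theorem bx11c38 : xorG (colF tauF y24x11) iv38 0 = 1902752 := by decide +kernel
theorem bx11c39 : xorG (colF tauF y24x11) iv39 0 = 1569512 := by decide +kernel
theorem bx11c40 : xorG (colF tauF y24x11) iv40 0 = 1122880 := by decide +kernel
theorem bx11c41 : xorG (colF tauF y24x11) iv41 0 = 1107024 := by decide +kernel
theorem bx11c42 : xorG (colF tauF y24x11) iv42 0 = 986624 := by decide +kernel
theorem bx11c43 : xorG (colF tauF y24x11) iv43 0 = 1077920 := by decide +kernel
theorem bx11c44 : xorG (colF tauF y24x11) iv44 0 = 2003320 := by decide +kernel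
theorem bx11c45 : xorG (colF tauF y24x11) iv45 0 = 137504 := by decide +kernel
theorem bx11c46 : xorG (colF tauF y24x11) iv46 0 = 98608 := by decide +kernel
theorem bx11c47 : xorG (colF tauF y24x11) iv47 0 = 1553472 := by decide +kernel
theorem bx11c48 : xorG (colF tauF y24x11) iv48 0 = 159008 := by decide +kernel
theorem bx11c49 : xorG (colF tauF y24x11) iv49 0 = 187456 := by decide +kernel
theorem bx11c50 : xorG (colF tauF y24x11) iv50 0 = 77408 := by decide +kernel
theorem bx11c51 : xorG (colF tauF y24x11) iv51 0 = 1310752 := by decide +kernel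
theorem bx11c52 : xorG (colF tauF y24x11) iv52 0 = 262184 := by decide +kernel
theorem bx11c53 : xorG (colF tauF y24x11) iv53 0 = 23296 := by decide +kernel
theorem bx11c54 : xorG (colF tauF y24x11) iv54 0 = 264224 := by decide +kernel
theorem bx11c55 : xorG (colF tauF y24x11) iv55 0 = 289568 := by decide +kernel
theorem bx11c56 : xorG (colF tauF y24x11) iv56 0 = 1755008 := by decide +kernel
theorem bx11c57 : xorG (colF tauF y24x11) iv57 0 = 1897088 := by decide +kernel
theorem bx11c58 : xorG (colF tauF y24x11) iv58 0 = 876928 := by decide +kernel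
theorem bx11c59 : xorG (colF tauF y24x11) iv59 0 = 1941136 := by decide +kernel
theorem bx11c60 : xorG (colF tauF y24x11) iv60 0 = 1725952 := by decide +kernel
theorem bx11c61 : xorG (colF tauF y24x11) iv61 0 = 974000 := by decide +kernel
theorem bx11c62 : xorG (colF tauF y24x11) iv62 0 = 1196992 := by decide +kernel
theorem bx11c63 : xorG (colF tauF y24x11) iv63 0 = 1994992 := by decide +kernel
theorem bx11c64 : xorG (colF tauF y24x11) iv64 0 = 949184 := by decide +kernel
theorem bx11c65 : xorG (colF tauF y24x11) iv65 0 = 548160 := by decide +kernel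
theorem bx11c66 : xorG (colF tauF y24x11) iv66 0 = 62784 := by decide +kernel
theorem bx11c67 : xorG (colF tauF y24x11) iv67 0 = 126752 := by decide +kernel
theorem bx11c68 : xorG (colF tauF y24x11) iv68 0 = 2003728 := by decide +kernel
theorem bx11c69 : xorG (colF tauF y24x11) iv69 0 = 1450736 := by decide +kernel
theorem bx11c70 : xorG (colF tauF y24x11) iv70 0 = 1966336 := by decide +kernel
theorem bx11c71 : xorG (colF tauF y24x11) iv71 0 = 1345984 := by decide +kernel
theorem bx11c72 : xorG (colF tauF y24x11) iv72 0 = 350096 := by decide +kernel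
theorem bx11c73 : xorG (colF tauF y24x11) iv73 0 = 891056 := by decide +kernel
theorem bx11c74 : xorG (colF tauF y24x11) iv74 0 = 1102432 := by decide +kernel
theorem bx11c75 : xorG (colF tauF y24x11) iv75 0 = 839072 := by decide +kernel
theorem bx11c76 : xorG (colF tauF y24x11) iv76 0 = 995776 := by decide +kernel
theorem bx11c77 : xorG (colF tauF y24x11) iv77 0 = 1075648 := by decide +kernel
theorem bx11c78 : xorG (colF tauF y24x11) iv78 0 = 1200384 := by decide +kernel
theorem bx11c79 : xorG (colF tauF y24x11) iv79 0 = 24592 := by decide +kernel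
theorem bx11c80 : xorG (colF tauF y24x11) iv80 0 = 406336 := by decide +kernel
theorem bx11c81 : xorG (colF tauF y24x11) iv81 0 = 1602400 := by decide +kernel
theorem bx11c82 : xorG (colF tauF y24x11) iv82 0 = 49664 := by decide +kernel
theorem bx11c83 : xorG (colF tauF y24x11) iv83 0 = 1024976 := by decide +kernel
theorem bx11c84 : xorG (colF tauF y24x11) iv84 0 = 899072 := by decide +kernel
theorem bx11c85 : xorG (colF tauF y24x11) iv85 0 = 523792 := by decide +kernel
theorem bx11c86 : xorG (colF tauF y24x11) iv86 0 = 29272 := by decide +kernel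
theorem bx11c87 : xorG (colF tauF y24x11) iv87 0 = 464896 := by decide +kernel
theorem bx11c88 : xorG (colF tauF y24x11) iv88 0 = 746432 := by decide +kernel
theorem bx11c89 : xorG (colF tauF y24x11) iv89 0 = 447816 := by decide +kernel
theorem bx11c90 : xorG (colF tauF y24x11) iv90 0 = 1763792 := by decide +kernel
theorem bx11c91 : xorG (colF tauF y24x11) iv91 0 = 525848 := by decide +kernel
theorem bx11c92 : xorG (colF tauF y24x11) iv92 0 = 646336 := by decide +kernel
theorem bx11c93 : xorG (colF tauF y24x11) iv93 0 = 248920 := by decide +kernel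
theorem bx11c94 : xorG (colF tauF y24x11) iv94 0 = 376096 := by decide +kernel
theorem bx11c95 : xorG (colF tauF y24x11) iv95 0 = 2007168 := by decide +kernel
theorem bx11c96 : xorG (colF tauF y24x11) iv96 0 = 289952 := by decide +kernel
theorem bx11c97 : xorG (colF tauF y24x11) iv97 0 = 1094464 := by decide +kernel
theorem bx11c98 : xorG (colF tauF y24x11) iv98 0 = 1117200 := by decide +kernel
theorem bx11c99 : xorG (colF tauF y24x11) iv99 0 = 622472 := by decide +kernel
theorem bx11c100 : xorG (colF tauF y24x11) iv100 0 = 962352 := by decide +kernel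
theorem bx11c101 : xorG (colF tauF y24x11) iv101 0 = 335328 := by decide +kernel
theorem bx11c102 : xorG (colF tauF y24x11) iv102 0 = 1215920 := by decide +kernel
theorem bx11c103 : xorG (colF tauF y24x11) iv103 0 = 404352 := by decide +kernel
theorem bx11c104 : xorG (colF tauF y24x11) iv104 0 = 392304 := by decide +kernel
theorem bx11c105 : xorG (colF tauF y24x11) iv105 0 = 1790752 := by decide +kernel
theorem bx11c106 : xorG (colF tauF y24x11) iv106 0 = 1028960 := by decide +kernel
theorem bx11c107 : xorG (colF tauF y24x11) iv107 0 = 768272 := by decide +kernel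
theorem bx11c108 : xorG (colF tauF y24x11) iv108 0 = 475264 := by decide +kernel
theorem bx11c109 : xorG (colF tauF y24x11) iv109 0 = 958656 := by decide +kernel
theorem bx11c110 : xorG (colF tauF y24x11) iv110 0 = 1505056 := by decide +kernel
theorem bx11c111 : xorG (colF tauF y24x11) iv111 0 = 520512 := by decide +kernel
theorem bx11c112 : xorG (colF tauF y24x11) iv112 0 = 2077024 := by decide +kernel
theorem bx11c113 : xorG (colF tauF y24x11) iv113 0 = 554560 := by decide +kernel
theorem bx11c114 : xorG (colF tauF y24x11) iv114 0 = 2075112 := by decide +kernel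
theorem bx11c115 : xorG (colF tauF y24x11) iv115 0 = 1077992 := by decide +kernel
theorem bx11c116 : xorG (colF tauF y24x11) iv116 0 = 961096 := by decide +kernel
theorem bx11c117 : xorG (colF tauF y24x11) iv117 0 = 595496 := by decide +kernel
theorem bx11c118 : xorG (colF tauF y24x11) iv118 0 = 1069696 := by decide +kernel
theorem bx11c119 : xorG (colF tauF y24x11) iv119 0 = 984064 := by decide +kernel
theorem bx11c120 : xorG (colF tauF y24x11) iv120 0 = 1340448 := by decide +kernel
theorem bx11c121 : xorG (colF tauF y24x11) iv121 0 = 1946920 := by decide +kernel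
theorem bx11c122 : xorG (colF tauF y24x11) iv122 0 = 2027264 := by decide +kernel
theorem bx11c123 : xorG (colF tauF y24x11) iv123 0 = 898048 := by decide +kernel
theorem bx11c124 : xorG (colF tauF y24x11) iv124 0 = 647552 := by decide +kernel
theorem bx11c125 : xorG (colF tauF y24x11) iv125 0 = 207680 := by decide +kernel
theorem bx11c126 : xorG (colF tauF y24x11) iv126 0 = 141632 := by decide +kernel
theorem bx11c127 : xorG (colF tauF y24x11) iv127 0 = 300200 := by decide +kernel

theorem bits24x11 : xorG (colF tauF y24x11) invT 0 = 616 :=
  (xorG_node (N := 616) (xorG_node (N := 486752) (xorG_node (N := 23232) (xorG_node (N := 902760) (xorG_node (N := 1517728) (xorG_node (N := 1165536) (xorG_node (N := 288016) bx11c0 (by decide +kernel) bx11c1) (by decide +kernel) (xorG_node (N := 1388016) bx11c2 (by decide +kernel) bx11c3)) (by decide +kernel) (xorG_node (N := 974912) (xorG_node (N := 1568224) bx11c4 (by decide +kernel) bx11c5) (by decide +kernel) (xorG_node (N := 1117600) bx11c6 (by decide +kernel) bx11c7))) (by decide +kernel) (xorG_node (N := 2027208) (xorG_node (N := 43224) (xorG_node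 (N := 2049864) bx11c8 (by decide +kernel) bx11c9) (by decide +kernel) (xorG_node (N := 1044368) bx11c10 (by decide +kernel) bx11c11)) (by decide +kernel) (xorG_node (N := 2049552) (xorG_node (N := 702816) bx11c12 (by decide +kernel) bx11c13) (by decide +kernel) (xorG_node (N := 1433456) bx11c14 (by decide +kernel) bx11c15)))) (by decide +kernel) (xorG_node (N := 1940648) (xorG_node (N := 865120) (xorG_node (N := 577056) (xorG_node (N := 171744) bx11c16 (by decide +kernel) bx11c17) (by decide +kernel) (xorG_node (N := 659648) bx11c18 (by decide +kernel) bx11c19)) (by decide +kernel) (xorG_node (N := 391488) (xorG_node (N := 1263776) bx11c20 (by decide +kernel) bx11c21) (by decide +kernel) (xorG_node (N := 1487840) bx11c22 (by decide +kernel) bx11c23))) (by decide +kernel) (xorG_node (N := 1355720) (xorG_node (N := 215592) (xorG_node (N := 745136) bx11c24 (by decide +kernel) bx11c25) (by decide +kernel) (xorG_node (N := 5272) bx11c26 (by decide +kernel) bx11c27)) (by decide +kernel) (xorG_node (N := 1304032) (xorG_node (N := 279648) bx11c28 (by decide +kernel) bx11c29) (by decide +kernel)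 (xorG_node (N := 1417600) bx11c30 (by decide +kernel) bx11c31))))) (by decide +kernel) (xorG_node (N := 341920) (xorG_node (N := 375160) (xorG_node (N := 245472) (xorG_node (N := 1879112) (xorG_node (N := 409600) bx11c32 (by decide +kernel) bx11c33) (by decide +kernel) (xorG_node (N := 715848) bx11c34 (by decide +kernel) bx11c35)) (by decide +kernel) (xorG_node (N := 2069160) (xorG_node (N := 1534688) bx11c36 (by decide +kernel) bx11c37) (by decide +kernel) (xorG_node (N := 588360) bx11c38 (by decide +kernel) bx11c39))) (by decide +kernel) (xorG_node (N := 411544) (xorG_node (N := 982704) (xorG_node (N := 99856) bx11c40 (by decide +kernel) bx11c41) (by decide +kernel) (xorG_node (N := 2062496) bx11c42 (by decide +kernel) bx11c43)) (by decide +kernel) (xorG_node (N := 572712) (xorG_node (N := 1886296) bx11c44 (by decide +kernel) bx11c45) (by decide +kernel) (xorG_node (N := 1324400) bx11c46 (by decide +kernel) bx11c47)))) (by decide +kernel) (xorG_node (N := 167640) (xorG_node (N := 1568584) (xorG_node (N := 1171296) (xorG_node (N := 45344) bx11c48 (by decide +kernel) bx11c49) (by decide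 +kernel) (xorG_node (N := 1404480) bx11c50 (by decide +kernel) bx11c51)) (by decide +kernel) (xorG_node (N := 407592) (xorG_node (N := 23336) bx11c52 (by decide +kernel) bx11c53) (by decide +kernel) (xorG_node (N := 156416) bx11c54 (by decide +kernel) bx11c55))) (by decide +kernel) (xorG_node (N := 1532304) (xorG_node (N := 1427472) (xorG_node (N := 407296) bx11c56 (by decide +kernel) bx11c57) (by decide +kernel) (xorG_node (N := 1179408) bx11c58 (by decide +kernel) bx11c59)) (by decide +kernel) (xorG_node (N := 698752) (xorG_node (N := 1477296) bx11c60 (by decide +kernel) bx11c61) (by decide +kernel) (xorG_node (N := 1848112) bx11c62 (by decide +kernel) bx11c63)))))) (by decide +kernel) (xorG_node (N := 485128) (xorG_node (N := 55024) (xorG_node (N := 1943600) (xorG_node (N := 789952) (xorG_node (N := 408800) (xorG_node (N := 468608) bx11c64 (by decide +kernel) bx11c65) (by decide +kernel) (xorG_node (N := 203360) bx11c66 (by decide +kernel) bx11c67)) (by decide +kernel) (xorG_node (N := 930080) (xorG_node (N := 45536) bx11c68 (by decide +kernel) bx11c69) (by decide +kernel) (xorG_node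 (N := 688320) bx11c70 (by decide +kernel) bx11c71))) (by decide +kernel) (xorG_node (N := 1158640) (xorG_node (N := 1098976) (xorG_node (N := 576288) bx11c72 (by decide +kernel) bx11c73) (by decide +kernel) (xorG_node (N := 1580992) bx11c74 (by decide +kernel) bx11c75)) (by decide +kernel) (xorG_node (N := 354576) (xorG_node (N := 1923072) bx11c76 (by decide +kernel) bx11c77) (by decide +kernel) (xorG_node (N := 1061136) bx11c78 (by decide +kernel) bx11c79)))) (by decide +kernel) (xorG_node (N := 1924800) (xorG_node (N := 1770680) (xorG_node (N := 1518064) (xorG_node (N := 1851424) bx11c80 (by decide +kernel) bx11c81) (by decide +kernel) (xorG_node (N := 745936) bx11c82 (by decide +kernel) bx11c83)) (by decide +kernel) (xorG_node (N := 535880) (xorG_node (N := 935440) bx11c84 (by decide +kernel) bx11c85) (by decide +kernel) (xorG_node (N := 420440) bx11c86 (by decide +kernel) bx11c87))) (by decide +kernel) (xorG_node (N := 417400) (xorG_node (N := 1530176) (xorG_node (N := 636552) bx11c88 (by decide +kernel) bx11c89) (by decide +kernel) (xorG_node (N := 1503176) bx11c90 (by decide +kernel)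 bx11c91)) (by decide +kernel) (xorG_node (N := 1247032) (xorG_node (N := 660120) bx11c92 (by decide +kernel) bx11c93) (by decide +kernel) (xorG_node (N := 1645984) bx11c94 (by decide +kernel) bx11c95))))) (by decide +kernel) (xorG_node (N := 496120) (xorG_node (N := 428952) (xorG_node (N := 1247384) (xorG_node (N := 797816) (xorG_node (N := 1499104) bx11c96 (by decide +kernel) bx11c97) (by decide +kernel) (xorG_node (N := 1635224) bx11c98 (by decide +kernel) bx11c99)) (by decide +kernel) (xorG_node (N := 2073824) (xorG_node (N := 758480) bx11c100 (by decide +kernel) bx11c101) (by decide +kernel) (xorG_node (N := 1357360) bx11c102 (by decide +kernel) bx11c103))) (by decide +kernel) (xorG_node (N := 361216) (xorG_node (N := 1991968) (xorG_node (N := 2027344) bx11c104 (by decide +kernel) bx11c105) (by decide +kernel) (xorG_node (N := 2672) bx11c106 (by decide +kernel) bx11c107)) (by decide +kernel) (xorG_node (N := 1762848) (xorG_node (N := 778304) bx11c108 (by decide +kernel) bx11c109) (by decide +kernel) (xorG_node (N := 1640032) bx11c110 (by decide +kernel) bx11c111)))) (by decide +kernel)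 (xorG_node (N := 105056) (xorG_node (N := 1046080) (xorG_node (N := 1326112) (xorG_node (N := 1566496) bx11c112 (by decide +kernel) bx11c113) (by decide +kernel) (xorG_node (N := 514816) bx11c114 (by decide +kernel) bx11c115)) (by decide +kernel) (xorG_node (N := 1829472) (xorG_node (N := 375904) bx11c116 (by decide +kernel) bx11c117) (by decide +kernel) (xorG_node (N := 2053632) bx11c118 (by decide +kernel) bx11c119))) (by decide +kernel) (xorG_node (N := 1993760) (xorG_node (N := 1776392) (xorG_node (N := 638984) bx11c120 (by decide +kernel) bx11c121) (by decide +kernel) (xorG_node (N := 1202944) bx11c122 (by decide +kernel) bx11c123)) (by decide +kernel) (xorG_node (N := 96040) (xorG_node (N := 182976) bx11c124 (by decide +kernel) bx11c125) (by decide +kernel) (xorG_node (N := 179688) bx11c126 (by decide +kernel) bx11c127)))))))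

end Cfsg.Agent.Lib.Compute.SB
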