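import Cfsg.Agent.Lib.Compute.SB.InvData
import Cfsg.Agent.Lib.Compute.SB.Chunk

/-!
# The parities of the types for a column of `M24` over all the involutions
-/

set_option autoImplicit false
set_option Elab.async false
set_option maxRecDepth 100000

namespace Cfsg.Agent.Lib.Compute.SB

open PTree

/-- The element for the column. -/
def y24x14 : ℕ := nat_lit 230327389196723068980396246162288341

theorem bx14c0 : xorG (colF tauF y24x14) iv0 0 = 1906976 := by decide +kernel
theorem bx14c1 : xorG (colF tauF y24x14) iv1 0 = 98432 := by decide +kernel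
theorem bx14c2 : xorG (colF tauF y24x14) iv2 0 = 1805988 := by decide +kernel
theorem bx14c3 : xorG (colF tauF y24x14) iv3 0 = 562064 := by decide +kernel
theorem bx14c4 : xorG (colF tauF y24x14) iv4 0 = 211408 := by decide +kernel
theorem bx14c5 : xorG (colF tauF y24x14) iv5 0 = 161792 := by decide +kernel
theorem bx14c6 : xorG (colF tauF y24x14) iv6 0 = 118912 := by decide +kernel
theorem bx14c7 : xorG (colF tauF y24x14) iv7 0 = 996992 := by decide +kernel
theorem bx14c8 : xorG (colF tauF y24x14) iv8 0 = 592680 := by decide +kernel
theorem bx14c9 : xorG (colF tauF y24x14) iv9 0 = 243840 := by decide +kernel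
theorem bx14c10 : xorG (colF tauF y24x14) iv10 0 = 892928 := by decide +kernel
theorem bx14c11 : xorG (colF tauF y24x14) iv11 0 = 1092192 := by decide +kernel
theorem bx14c12 : xorG (colF tauF y24x14) iv12 0 = 1311056 := by decide +kernel
theorem bx14c13 : xorG (colF tauF y24x14) iv13 0 = 213312 := by decide +kernel
theorem bx14c14 : xorG (colF tauF y24x14) iv14 0 = 1667460 := by decide +kernel
theorem bx14c15 : xorG (colF tauF y24x14) iv15 0 = 1312260 := by decide +kernel
theorem bx14c16 : xorG (colF tauF y24x14) iv16 0 = 1092560 := by decide +kernel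
theorem bx14c17 : xorG (colF tauF y24x14) iv17 0 = 287808 := by decide +kernel
theorem bx14c18 : xorG (colF tauF y24x14) iv18 0 = 146352 := by decide +kernel
theorem bx14c19 : xorG (colF tauF y24x14) iv19 0 = 1716384 := by decide +kernel
theorem bx14c20 : xorG (colF tauF y24x14) iv20 0 = 750352 := by decide +kernel
theorem bx14c21 : xorG (colF tauF y24x14) iv21 0 = 1470480 := by decide +kernel
theorem bx14c22 : xorG (colF tauF y24x14) iv22 0 = 16544 := by decide +kernel
theorem bx14c23 : xorG (colF tauF y24x14) iv23 0 = 2007168 := by decide +kernel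
theorem bx14c24 : xorG (colF tauF y24x14) iv24 0 = 1194664 := by decide +kernel
theorem bx14c25 : xorG (colF tauF y24x14) iv25 0 = 1679200 := by decide +kernel
theorem bx14c26 : xorG (colF tauF y24x14) iv26 0 = 396032 := by decide +kernel
theorem bx14c27 : xorG (colF tauF y24x14) iv27 0 = 1200928 := by decide +kernel
theorem bx14c28 : xorG (colF tauF y24x14) iv28 0 = 1185824 := by decide +kernel
theorem bx14c29 : xorG (colF tauF y24x14) iv29 0 = 20776 := by decide +kernel
theorem bx14c30 : xorG (colF tauF y24x14) iv30 0 = 1526176 := by decide +kernel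
theorem bx14c31 : xorG (colF tauF y24x14) iv31 0 = 1470856 := by decide +kernel
theorem bx14c32 : xorG (colF tauF y24x14) iv32 0 = 1118480 := by decide +kernel
theorem bx14c33 : xorG (colF tauF y24x14) iv33 0 = 393472 := by decide +kernel
theorem bx14c34 : xorG (colF tauF y24x14) iv34 0 = 1730816 := by decide +kernel
theorem bx14c35 : xorG (colF tauF y24x14) iv35 0 = 96144 := by decide +kernel
theorem bx14c36 : xorG (colF tauF y24x14) iv36 0 = 1978228 := by decide +kernel
theorem bx14c37 : xorG (colF tauF y24x14) iv37 0 = 406688 := by decide +kernel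
theorem bx14c38 : xorG (colF tauF y24x14) iv38 0 = 946160 := by decide +kernel
theorem bx14c39 : xorG (colF tauF y24x14) iv39 0 = 399136 := by decide +kernel
theorem bx14c40 : xorG (colF tauF y24x14) iv40 0 = 16672 := by decide +kernel
theorem bx14c41 : xorG (colF tauF y24x14) iv41 0 = 1234480 := by decide +kernel
theorem bx14c42 : xorG (colF tauF y24x14) iv42 0 = 1502000 := by decide +kernel
theorem bx14c43 : xorG (colF tauF y24x14) iv43 0 = 1365200 := by decide +kernel
theorem bx14c44 : xorG (colF tauF y24x14) iv44 0 = 665512 := by decide +kernel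
theorem bx14c45 : xorG (colF tauF y24x14) iv45 0 = 468128 := by decide +kernel
theorem bx14c46 : xorG (colF tauF y24x14) iv46 0 = 1711664 := by decide +kernel
theorem bx14c47 : xorG (colF tauF y24x14) iv47 0 = 1791520 := by decide +kernel
theorem bx14c48 : xorG (colF tauF y24x14) iv48 0 = 1616280 := by decide +kernel
theorem bx14c49 : xorG (colF tauF y24x14) iv49 0 = 868656 := by decide +kernel
theorem bx14c50 : xorG (colF tauF y24x14) iv50 0 = 521440 := by decide +kernel
theorem bx14c51 : xorG (colF tauF y24x14) iv51 0 = 660608 := by decide +kernel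
theorem bx14c52 : xorG (colF tauF y24x14) iv52 0 = 331104 := by decide +kernel
theorem bx14c53 : xorG (colF tauF y24x14) iv53 0 = 12544 := by decide +kernel
theorem bx14c54 : xorG (colF tauF y24x14) iv54 0 = 2008852 := by decide +kernel
theorem bx14c55 : xorG (colF tauF y24x14) iv55 0 = 1365168 := by decide +kernel
theorem bx14c56 : xorG (colF tauF y24x14) iv56 0 = 1123120 := by decide +kernel
theorem bx14c57 : xorG (colF tauF y24x14) iv57 0 = 877824 := by decide +kernel
theorem bx14c58 : xorG (colF tauF y24x14) iv58 0 = 614404 := by decide +kernel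
theorem bx14c59 : xorG (colF tauF y24x14) iv59 0 = 79504 := by decide +kernel
theorem bx14c60 : xorG (colF tauF y24x14) iv60 0 = 360992 := by decide +kernel
theorem bx14c61 : xorG (colF tauF y24x14) iv61 0 = 696272 := by decide +kernel
theorem bx14c62 : xorG (colF tauF y24x14) iv62 0 = 1806848 := by decide +kernel
theorem bx14c63 : xorG (colF tauF y24x14) iv63 0 = 1109392 := by decide +kernel
theorem bx14c64 : xorG (colF tauF y24x14) iv64 0 = 827808 := by decide +kernel
theorem bx14c65 : xorG (colF tauF y24x14) iv65 0 = 1962016 := by decide +kernel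
theorem bx14c66 : xorG (colF tauF y24x14) iv66 0 = 25156 := by decide +kernel
theorem bx14c67 : xorG (colF tauF y24x14) iv67 0 = 1077376 := by decide +kernel
theorem bx14c68 : xorG (colF tauF y24x14) iv68 0 = 1973392 := by decide +kernel
theorem bx14c69 : xorG (colF tauF y24x14) iv69 0 = 791456 := by decide +kernel
theorem bx14c70 : xorG (colF tauF y24x14) iv70 0 = 1576912 := by decide +kernel
theorem bx14c71 : xorG (colF tauF y24x14) iv71 0 = 1875808 := by decide +kernel
theorem bx14c72 : xorG (colF tauF y24x14) iv72 0 = 1732864 := by decide +kernel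
theorem bx14c73 : xorG (colF tauF y24x14) iv73 0 = 1654992 := by decide +kernel
theorem bx14c74 : xorG (colF tauF y24x14) iv74 0 = 1360036 := by decide +kernel
theorem bx14c75 : xorG (colF tauF y24x14) iv75 0 = 254768 := by decide +kernel
theorem bx14c76 : xorG (colF tauF y24x14) iv76 0 = 682936 := by decide +kernel
theorem bx14c77 : xorG (colF tauF y24x14) iv77 0 = 396848 := by decide +kernel
theorem bx14c78 : xorG (colF tauF y24x14) iv78 0 = 43440 := by decide +kernel
theorem bx14c79 : xorG (colF tauF y24x14) iv79 0 = 1335600 := by decide +kernel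
theorem bx14c80 : xorG (colF tauF y24x14) iv80 0 = 1126656 := by decide +kernel
theorem bx14c81 : xorG (colF tauF y24x14) iv81 0 = 821264 := by decide +kernel
theorem bx14c82 : xorG (colF tauF y24x14) iv82 0 = 1026528 := by decide +kernel
theorem bx14c83 : xorG (colF tauF y24x14) iv83 0 = 1164560 := by decide +kernel
theorem bx14c84 : xorG (colF tauF y24x14) iv84 0 = 2026928 := by decide +kernel
theorem bx14c85 : xorG (colF tauF y24x14) iv85 0 = 701124 := by decide +kernel
theorem bx14c86 : xorG (colF tauF y24x14) iv86 0 = 871304 := by decide +kernel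
theorem bx14c87 : xorG (colF tauF y24x14) iv87 0 = 569376 := by decide +kernel
theorem bx14c88 : xorG (colF tauF y24x14) iv88 0 = 121312 := by decide +kernel
theorem bx14c89 : xorG (colF tauF y24x14) iv89 0 = 1805184 := by decide +kernel
theorem bx14c90 : xorG (colF tauF y24x14) iv90 0 = 1542176 := by decide +kernel
theorem bx14c91 : xorG (colF tauF y24x14) iv91 0 = 51744 := by decide +kernel
theorem bx14c92 : xorG (colF tauF y24x14) iv92 0 = 1313056 := by decide +kernel
theorem bx14c93 : xorG (colF tauF y24x14) iv93 0 = 1179904 := by decide +kernel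
theorem bx14c94 : xorG (colF tauF y24x14) iv94 0 = 133920 := by decide +kernel
theorem bx14c95 : xorG (colF tauF y24x14) iv95 0 = 148008 := by decide +kernel
theorem bx14c96 : xorG (colF tauF y24x14) iv96 0 = 2020768 := by decide +kernel
theorem bx14c97 : xorG (colF tauF y24x14) iv97 0 = 1715616 := by decide +kernel
theorem bx14c98 : xorG (colF tauF y24x14) iv98 0 = 574976 := by decide +kernel
theorem bx14c99 : xorG (colF tauF y24x14) iv99 0 = 106880 := by decide +kernel
theorem bx14c100 : xorG (colF tauF y24x14) iv100 0 = 1005336 := by decide +kernel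
theorem bx14c101 : xorG (colF tauF y24x14) iv101 0 = 1725840 := by decide +kernel
theorem bx14c102 : xorG (colF tauF y24x14) iv102 0 = 677936 := by decide +kernel
theorem bx14c103 : xorG (colF tauF y24x14) iv103 0 = 1414704 := by decide +kernel
theorem bx14c104 : xorG (colF tauF y24x14) iv104 0 = 1397540 := by decide +kernel
theorem bx14c105 : xorG (colF tauF y24x14) iv105 0 = 1141776 := by decide +kernel
theorem bx14c106 : xorG (colF tauF y24x14) iv106 0 = 127664 := by decide +kernel
theorem bx14c107 : xorG (colF tauF y24x14) iv107 0 = 1647008 := by decide +kernel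
theorem bx14c108 : xorG (colF tauF y24x14) iv108 0 = 1537668 := by decide +kernel
theorem bx14c109 : xorG (colF tauF y24x14) iv109 0 = 979792 := by decide +kernel
theorem bx14c110 : xorG (colF tauF y24x14) iv110 0 = 1589536 := by decide +kernel
theorem bx14c111 : xorG (colF tauF y24x14) iv111 0 = 589608 := by decide +kernel
theorem bx14c112 : xorG (colF tauF y24x14) iv112 0 = 1121040 := by decide +kernel
theorem bx14c113 : xorG (colF tauF y24x14) iv113 0 = 318128 := by decide +kernel
theorem bx14c114 : xorG (colF tauF y24x14) iv114 0 = 320944 := by decide +kernel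
theorem bx14c115 : xorG (colF tauF y24x14) iv115 0 = 1431552 := by decide +kernel
theorem bx14c116 : xorG (colF tauF y24x14) iv116 0 = 1124368 := by decide +kernel
theorem bx14c117 : xorG (colF tauF y24x14) iv117 0 = 1885480 := by decide +kernel
theorem bx14c118 : xorG (colF tauF y24x14) iv118 0 = 932640 := by decide +kernel
theorem bx14c119 : xorG (colF tauF y24x14) iv119 0 = 2087632 := by decide +kernel
theorem bx14c120 : xorG (colF tauF y24x14) iv120 0 = 1048000 := by decide +kernel
theorem bx14c121 : xorG (colF tauF y24x14) iv121 0 = 1272512 := by decide +kernel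
theorem bx14c122 : xorG (colF tauF y24x14) iv122 0 = 1241648 := by decide +kernel
theorem bx14c123 : xorG (colF tauF y24x14) iv123 0 = 487576 := by decide +kernel
theorem bx14c124 : xorG (colF tauF y24x14) iv124 0 = 60896 := by decide +kernel
theorem bx14c125 : xorG (colF tauF y24x14) iv125 0 = 1865248 := by decide +kernel
theorem bx14c126 : xorG (colF tauF y24x14) iv126 0 = 1263616 := by decide +kernel
theorem bx14c127 : xorG (colF tauF y24x14) iv127 0 = 1082776 := by decide +kernel

theorem bits24x14 : xorG (colF tauF y24x14) invT 0 = 68 :=
  (xorG_node (N := 68) (xorG_node (N := 1053392) (xorG_node (N := 110196) (xorG_node (N := 1212188) (xorG_node (N := 25412) (xorG_node (N := 869524) (xorG_node (N := 2005408) bx14c0 (by decide +kernel) bx14c1) (by decide +kernel) (xorG_node (N := 1285428) bx14c2 (by decide +kernel) bx14c3)) (by decide +kernel) (xorG_node (N := 894928) (xorG_node (N := 66000) bx14c4 (by decide +kernel) bx14c5) (by decide +kernel) (xorG_node (N := 845312) bx14c6 (by decide +kernel) bx14c7))) (by decide +kernel) (xorG_node (N := 138328) (xorG_node (N := 2075592) (xorG_node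 (N := 697256) bx14c8 (by decide +kernel) bx14c9) (by decide +kernel) (xorG_node (N := 1902688) bx14c10 (by decide +kernel) bx14c11)) (by decide +kernel) (xorG_node (N := 1685392) (xorG_node (N := 1556496) bx14c12 (by decide +kernel) bx14c13) (by decide +kernel) (xorG_node (N := 817024) bx14c14 (by decide +kernel) bx14c15)))) (by decide +kernel) (xorG_node (N := 1266024) (xorG_node (N := 1048224) (xorG_node (N := 298112) (xorG_node (N := 1888144) bx14c16 (by decide +kernel) bx14c17) (by decide +kernel) (xorG_node (N := 1573648) bx14c18 (by decide +kernel) bx14c19)) (by decide +kernel) (xorG_node (N := 750368) (xorG_node (N := 1934080) bx14c20 (by decide +kernel) bx14c21) (by decide +kernel) (xorG_node (N := 1499168) bx14c22 (by decide +kernel) bx14c23))) (by decide +kernel) (xorG_node (N := 1884104) (xorG_node (N := 1048040) (xorG_node (N := 1025480) bx14c24 (by decide +kernel) bx14c25) (by decide +kernel) (xorG_node (N := 284704) bx14c26 (by decide +kernel) bx14c27)) (by decide +kernel) (xorG_node (N := 1266208) (xorG_node (N := 1198088) bx14c28 (by decide +kernel) bx14c29) (by decide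 +kernel) (xorG_node (N := 71720) bx14c30 (by decide +kernel) bx14c31))))) (by decide +kernel) (xorG_node (N := 1178788) (xorG_node (N := 154732) (xorG_node (N := 384900) (xorG_node (N := 1322624) (xorG_node (N := 1519632) bx14c32 (by decide +kernel) bx14c33) (by decide +kernel) (xorG_node (N := 1253008) bx14c34 (by decide +kernel) bx14c35)) (by decide +kernel) (xorG_node (N := 1110276) (xorG_node (N := 1579476) bx14c36 (by decide +kernel) bx14c37) (by decide +kernel) (xorG_node (N := 587984) bx14c38 (by decide +kernel) bx14c39))) (by decide +kernel) (xorG_node (N := 361448) (xorG_node (N := 1411312) (xorG_node (N := 1480464) bx14c40 (by decide +kernel) bx14c41) (by decide +kernel) (xorG_node (N := 212960) bx14c42 (by decide +kernel) bx14c43)) (by decide +kernel) (xorG_node (N := 1575704) (xorG_node (N := 1901320) bx14c44 (by decide +kernel) bx14c45) (by decide +kernel) (xorG_node (N := 67600) bx14c46 (by decide +kernel) bx14c47)))) (by decide +kernel) (xorG_node (N := 237768) (xorG_node (N := 1754636) (xorG_node (N := 1673672) (xorG_node (N := 1370280) bx14c48 (by decide +kernel) bx14c49)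 (by decide +kernel) (xorG_node (N := 909664) bx14c50 (by decide +kernel) bx14c51)) (by decide +kernel) (xorG_node (N := 479172) (xorG_node (N := 1391712) bx14c52 (by decide +kernel) bx14c53) (by decide +kernel) (xorG_node (N := 160676) bx14c54 (by decide +kernel) bx14c55))) (by decide +kernel) (xorG_node (N := 1795780) (xorG_node (N := 1442980) (xorG_node (N := 1984048) bx14c56 (by decide +kernel) bx14c57) (by decide +kernel) (xorG_node (N := 542356) bx14c58 (by decide +kernel) bx14c59)) (by decide +kernel) (xorG_node (N := 909920) (xorG_node (N := 1023472) bx14c60 (by decide +kernel) bx14c61) (by decide +kernel) (xorG_node (N := 688016) bx14c62 (by decide +kernel) bx14c63)))))) (by decide +kernel) (xorG_node (N := 1118868) (xorG_node (N := 478156) (xorG_node (N := 2016664) (xorG_node (N := 1641684) (xorG_node (N := 119636) (xorG_node (N := 1134992) bx14c64 (by decide +kernel) bx14c65) (by decide +kernel) (xorG_node (N := 1049284) bx14c66 (by decide +kernel) bx14c67)) (by decide +kernel) (xorG_node (N := 1892224) (xorG_node (N := 1199920) bx14c68 (by decide +kernel) bx14c69) (by decide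 +kernel) (xorG_node (N := 823472) bx14c70 (by decide +kernel) bx14c71))) (by decide +kernel) (xorG_node (N := 1034572) (xorG_node (N := 1507908) (xorG_node (N := 143824) bx14c72 (by decide +kernel) bx14c73) (by decide +kernel) (xorG_node (N := 1385364) bx14c74 (by decide +kernel) bx14c75)) (by decide +kernel) (xorG_node (N := 1608456) (xorG_node (N := 812936) bx14c76 (by decide +kernel) bx14c77) (by decide +kernel) (xorG_node (N := 1363072) bx14c78 (by decide +kernel) bx14c79)))) (by decide +kernel) (xorG_node (N := 1150548) (xorG_node (N := 169276) (xorG_node (N := 177632) (xorG_node (N := 1939728) bx14c80 (by decide +kernel) bx14c81) (by decide +kernel) (xorG_node (N := 1977584) bx14c82 (by decide +kernel) bx14c83)) (by decide +kernel) (xorG_node (N := 73948) (xorG_node (N := 286580) bx14c84 (by decide +kernel) bx14c85) (by decide +kernel) (xorG_node (N := 359336) bx14c86 (by decide +kernel) bx14c87))) (by decide +kernel) (xorG_node (N := 203624) (xorG_node (N := 464992) (xorG_node (N := 1727072) bx14c88 (by decide +kernel) bx14c89) (by decide +kernel) (xorG_node (N := 2048512) bx14c90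 (by decide +kernel) bx14c91)) (by decide +kernel) (xorG_node (N := 262408) (xorG_node (N := 395264) bx14c92 (by decide +kernel) bx14c93) (by decide +kernel) (xorG_node (N := 149768) bx14c94 (by decide +kernel) bx14c95))))) (by decide +kernel) (xorG_node (N := 1202520) (xorG_node (N := 803952) (xorG_node (N := 2053000) (xorG_node (N := 498560) (xorG_node (N := 326656) bx14c96 (by decide +kernel) bx14c97) (by decide +kernel) (xorG_node (N := 747392) bx14c98 (by decide +kernel) bx14c99)) (by decide +kernel) (xorG_node (N := 1625096) (xorG_node (N := 1376776) bx14c100 (by decide +kernel) bx14c101) (by decide +kernel) (xorG_node (N := 1035776) bx14c102 (by decide +kernel) bx14c103))) (by decide +kernel) (xorG_node (N := 1513464) (xorG_node (N := 1371172) (xorG_node (N := 16180) bx14c104 (by decide +kernel) bx14c105) (by decide +kernel) (xorG_node (N := 1889040) bx14c106 (by decide +kernel) bx14c107)) (by decide +kernel) (xorG_node (N := 785372) (xorG_node (N := 1803732) bx14c108 (by decide +kernel) bx14c109) (by decide +kernel) (xorG_node (N := 1064456) bx14c110 (by decide +kernel) bx14c111))))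 (by decide +kernel) (xorG_node (N := 2006312) (xorG_node (N := 825560) (xorG_node (N := 283664) (xorG_node (N := 1434016) bx14c112 (by decide +kernel) bx14c113) (by decide +kernel) (xorG_node (N := 1127856) bx14c114 (by decide +kernel) bx14c115)) (by decide +kernel) (xorG_node (N := 543944) (xorG_node (N := 650552) bx14c116 (by decide +kernel) bx14c117) (by decide +kernel) (xorG_node (N := 123376) bx14c118 (by decide +kernel) bx14c119))) (by decide +kernel) (xorG_node (N := 1050096) (xorG_node (N := 872872) (xorG_node (N := 1872640) bx14c120 (by decide +kernel) bx14c121) (by decide +kernel) (xorG_node (N := 1426088) bx14c122 (by decide +kernel) bx14c123)) (by decide +kernel) (xorG_node (N := 2053208) (xorG_node (N := 1891264) bx14c124 (by decide +kernel) bx14c125) (by decide +kernel) (xorG_node (N := 249752) bx14c126 (by decide +kernel) bx14c127)))))))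

end Cfsg.Agent.Lib.Compute.SB
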