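import Cfsg.Agent.Lib.Compute.SB.InvData
import Cfsg.Agent.Lib.Compute.SB.Chunk

/-!
# The parities of the types for a column of `M24` over all the involutions
-/

set_option autoImplicit false
set_option Elab.async false
set_option maxRecDepth 100000

namespace Cfsg.Agent.Lib.Compute.SB

open PTree

/-- The element for the column. -/
def y24x18 : ℕ := nat_lit 344909153279816266102865101255138703

theorem bx18c0 : xorG (colF tauF y24x18) iv0 0 = 1740816 := by decide +kernel
theorem bx18c1 : xorG (colF tauF y24x18) iv1 0 = 1476592 := by decide +kernel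
theorem bx18c2 : xorG (colF tauF y24x18) iv2 0 = 653496 := by decide +kernel
theorem bx18c3 : xorG (colF tauF y24x18) iv3 0 = 70928 := by decide +kernel
theorem bx18c4 : xorG (colF tauF y24x18) iv4 0 = 674464 := by decide +kernel
theorem bx18c5 : xorG (colF tauF y24x18) iv5 0 = 469152 := by decide +kernel
theorem bx18c6 : xorG (colF tauF y24x18) iv6 0 = 987680 := by decide +kernel
theorem bx18c7 : xorG (colF tauF y24x18) iv7 0 = 849760 := by decide +kernel
theorem bx18c8 : xorG (colF tauF y24x18) iv8 0 = 42560 := by decide +kernel
theorem bx18c9 : xorG (colF tauF y24x18) iv9 0 = 1366528 := by decide +kernel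
theorem bx18c10 : xorG (colF tauF y24x18) iv10 0 = 617872 := by decide +kernel
theorem bx18c11 : xorG (colF tauF y24x18) iv11 0 = 409888 := by decide +kernel
theorem bx18c12 : xorG (colF tauF y24x18) iv12 0 = 1327368 := by decide +kernel
theorem bx18c13 : xorG (colF tauF y24x18) iv13 0 = 23048 := by decide +kernel
theorem bx18c14 : xorG (colF tauF y24x18) iv14 0 = 151592 := by decide +kernel
theorem bx18c15 : xorG (colF tauF y24x18) iv15 0 = 1108016 := by decide +kernel
theorem bx18c16 : xorG (colF tauF y24x18) iv16 0 = 2034880 := by decide +kernel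
theorem bx18c17 : xorG (colF tauF y24x18) iv17 0 = 1734848 := by decide +kernel
theorem bx18c18 : xorG (colF tauF y24x18) iv18 0 = 58080 := by decide +kernel
theorem bx18c19 : xorG (colF tauF y24x18) iv19 0 = 927624 := by decide +kernel
theorem bx18c20 : xorG (colF tauF y24x18) iv20 0 = 2034976 := by decide +kernel
theorem bx18c21 : xorG (colF tauF y24x18) iv21 0 = 89184 := by decide +kernel
theorem bx18c22 : xorG (colF tauF y24x18) iv22 0 = 472368 := by decide +kernel
theorem bx18c23 : xorG (colF tauF y24x18) iv23 0 = 1287376 := by decide +kernel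
theorem bx18c24 : xorG (colF tauF y24x18) iv24 0 = 1557040 := by decide +kernel
theorem bx18c25 : xorG (colF tauF y24x18) iv25 0 = 1680320 := by decide +kernel
theorem bx18c26 : xorG (colF tauF y24x18) iv26 0 = 1347808 := by decide +kernel
theorem bx18c27 : xorG (colF tauF y24x18) iv27 0 = 1424176 := by decide +kernel
theorem bx18c28 : xorG (colF tauF y24x18) iv28 0 = 1176336 := by decide +kernel
theorem bx18c29 : xorG (colF tauF y24x18) iv29 0 = 226480 := by decide +kernel
theorem bx18c30 : xorG (colF tauF y24x18) iv30 0 = 1073056 := by decide +kernel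
theorem bx18c31 : xorG (colF tauF y24x18) iv31 0 = 664512 := by decide +kernel
theorem bx18c32 : xorG (colF tauF y24x18) iv32 0 = 1551392 := by decide +kernel
theorem bx18c33 : xorG (colF tauF y24x18) iv33 0 = 1388464 := by decide +kernel
theorem bx18c34 : xorG (colF tauF y24x18) iv34 0 = 463072 := by decide +kernel
theorem bx18c35 : xorG (colF tauF y24x18) iv35 0 = 1200872 := by decide +kernel
theorem bx18c36 : xorG (colF tauF y24x18) iv36 0 = 1587568 := by decide +kernel
theorem bx18c37 : xorG (colF tauF y24x18) iv37 0 = 336880 := by decide +kernel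
theorem bx18c38 : xorG (colF tauF y24x18) iv38 0 = 767984 := by decide +kernel
theorem bx18c39 : xorG (colF tauF y24x18) iv39 0 = 1108656 := by decide +kernel
theorem bx18c40 : xorG (colF tauF y24x18) iv40 0 = 158400 := by decide +kernel
theorem bx18c41 : xorG (colF tauF y24x18) iv41 0 = 16904 := by decide +kernel
theorem bx18c42 : xorG (colF tauF y24x18) iv42 0 = 32 := by decide +kernel
theorem bx18c43 : xorG (colF tauF y24x18) iv43 0 = 264200 := by decide +kernel
theorem bx18c44 : xorG (colF tauF y24x18) iv44 0 = 1051424 := by decide +kernel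
theorem bx18c45 : xorG (colF tauF y24x18) iv45 0 = 857880 := by decide +kernel
theorem bx18c46 : xorG (colF tauF y24x18) iv46 0 = 1028256 := by decide +kernel
theorem bx18c47 : xorG (colF tauF y24x18) iv47 0 = 1291808 := by decide +kernel
theorem bx18c48 : xorG (colF tauF y24x18) iv48 0 = 1471136 := by decide +kernel
theorem bx18c49 : xorG (colF tauF y24x18) iv49 0 = 893432 := by decide +kernel
theorem bx18c50 : xorG (colF tauF y24x18) iv50 0 = 342288 := by decide +kernel
theorem bx18c51 : xorG (colF tauF y24x18) iv51 0 = 1336688 := by decide +kernel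
theorem bx18c52 : xorG (colF tauF y24x18) iv52 0 = 664416 := by decide +kernel
theorem bx18c53 : xorG (colF tauF y24x18) iv53 0 = 1558272 := by decide +kernel
theorem bx18c54 : xorG (colF tauF y24x18) iv54 0 = 1773760 := by decide +kernel
theorem bx18c55 : xorG (colF tauF y24x18) iv55 0 = 1998256 := by decide +kernel
theorem bx18c56 : xorG (colF tauF y24x18) iv56 0 = 1879200 := by decide +kernel
theorem bx18c57 : xorG (colF tauF y24x18) iv57 0 = 544048 := by decide +kernel
theorem bx18c58 : xorG (colF tauF y24x18) iv58 0 = 1697840 := by decide +kernel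
theorem bx18c59 : xorG (colF tauF y24x18) iv59 0 = 131216 := by decide +kernel
theorem bx18c60 : xorG (colF tauF y24x18) iv60 0 = 1487872 := by decide +kernel
theorem bx18c61 : xorG (colF tauF y24x18) iv61 0 = 513072 := by decide +kernel
theorem bx18c62 : xorG (colF tauF y24x18) iv62 0 = 1616416 := by decide +kernel
theorem bx18c63 : xorG (colF tauF y24x18) iv63 0 = 850784 := by decide +kernel
theorem bx18c64 : xorG (colF tauF y24x18) iv64 0 = 1383600 := by decide +kernel
theorem bx18c65 : xorG (colF tauF y24x18) iv65 0 = 578480 := by decide +kernel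
theorem bx18c66 : xorG (colF tauF y24x18) iv66 0 = 1024880 := by decide +kernel
theorem bx18c67 : xorG (colF tauF y24x18) iv67 0 = 670976 := by decide +kernel
theorem bx18c68 : xorG (colF tauF y24x18) iv68 0 = 511400 := by decide +kernel
theorem bx18c69 : xorG (colF tauF y24x18) iv69 0 = 16336 := by decide +kernel
theorem bx18c70 : xorG (colF tauF y24x18) iv70 0 = 1486096 := by decide +kernel
theorem bx18c71 : xorG (colF tauF y24x18) iv71 0 = 934912 := by decide +kernel
theorem bx18c72 : xorG (colF tauF y24x18) iv72 0 = 718448 := by decide +kernel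
theorem bx18c73 : xorG (colF tauF y24x18) iv73 0 = 1155544 := by decide +kernel
theorem bx18c74 : xorG (colF tauF y24x18) iv74 0 = 232608 := by decide +kernel
theorem bx18c75 : xorG (colF tauF y24x18) iv75 0 = 695632 := by decide +kernel
theorem bx18c76 : xorG (colF tauF y24x18) iv76 0 = 1272368 := by decide +kernel
theorem bx18c77 : xorG (colF tauF y24x18) iv77 0 = 1757632 := by decide +kernel
theorem bx18c78 : xorG (colF tauF y24x18) iv78 0 = 212032 := by decide +kernel
theorem bx18c79 : xorG (colF tauF y24x18) iv79 0 = 1292448 := by decide +kernel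
theorem bx18c80 : xorG (colF tauF y24x18) iv80 0 = 31368 := by decide +kernel
theorem bx18c81 : xorG (colF tauF y24x18) iv81 0 = 314144 := by decide +kernel
theorem bx18c82 : xorG (colF tauF y24x18) iv82 0 = 92864 := by decide +kernel
theorem bx18c83 : xorG (colF tauF y24x18) iv83 0 = 1159024 := by decide +kernel
theorem bx18c84 : xorG (colF tauF y24x18) iv84 0 = 1491184 := by decide +kernel
theorem bx18c85 : xorG (colF tauF y24x18) iv85 0 = 1051792 := by decide +kernel
theorem bx18c86 : xorG (colF tauF y24x18) iv86 0 = 1698112 := by decide +kernel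
theorem bx18c87 : xorG (colF tauF y24x18) iv87 0 = 1820464 := by decide +kernel
theorem bx18c88 : xorG (colF tauF y24x18) iv88 0 = 1203424 := by decide +kernel
theorem bx18c89 : xorG (colF tauF y24x18) iv89 0 = 1991920 := by decide +kernel
theorem bx18c90 : xorG (colF tauF y24x18) iv90 0 = 1561936 := by decide +kernel
theorem bx18c91 : xorG (colF tauF y24x18) iv91 0 = 693888 := by decide +kernel
theorem bx18c92 : xorG (colF tauF y24x18) iv92 0 = 1561616 := by decide +kernel
theorem bx18c93 : xorG (colF tauF y24x18) iv93 0 = 1631480 := by decide +kernel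
theorem bx18c94 : xorG (colF tauF y24x18) iv94 0 = 1131936 := by decide +kernel
theorem bx18c95 : xorG (colF tauF y24x18) iv95 0 = 849264 := by decide +kernel
theorem bx18c96 : xorG (colF tauF y24x18) iv96 0 = 1386688 := by decide +kernel
theorem bx18c97 : xorG (colF tauF y24x18) iv97 0 = 1708976 := by decide +kernel
theorem bx18c98 : xorG (colF tauF y24x18) iv98 0 = 280368 := by decide +kernel
theorem bx18c99 : xorG (colF tauF y24x18) iv99 0 = 1045312 := by decide +kernel
theorem bx18c100 : xorG (colF tauF y24x18) iv100 0 = 1965808 := by decide +kernel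
theorem bx18c101 : xorG (colF tauF y24x18) iv101 0 = 865984 := by decide +kernel
theorem bx18c102 : xorG (colF tauF y24x18) iv102 0 = 2073712 := by decide +kernel
theorem bx18c103 : xorG (colF tauF y24x18) iv103 0 = 1611968 := by decide +kernel
theorem bx18c104 : xorG (colF tauF y24x18) iv104 0 = 1296032 := by decide +kernel
theorem bx18c105 : xorG (colF tauF y24x18) iv105 0 = 970544 := by decide +kernel
theorem bx18c106 : xorG (colF tauF y24x18) iv106 0 = 1717944 := by decide +kernel
theorem bx18c107 : xorG (colF tauF y24x18) iv107 0 = 992288 := by decide +kernel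
theorem bx18c108 : xorG (colF tauF y24x18) iv108 0 = 1870592 := by decide +kernel
theorem bx18c109 : xorG (colF tauF y24x18) iv109 0 = 1096960 := by decide +kernel
theorem bx18c110 : xorG (colF tauF y24x18) iv110 0 = 882832 := by decide +kernel
theorem bx18c111 : xorG (colF tauF y24x18) iv111 0 = 554144 := by decide +kernel
theorem bx18c112 : xorG (colF tauF y24x18) iv112 0 = 434480 := by decide +kernel
theorem bx18c113 : xorG (colF tauF y24x18) iv113 0 = 2022784 := by decide +kernel
theorem bx18c114 : xorG (colF tauF y24x18) iv114 0 = 224512 := by decide +kernel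
theorem bx18c115 : xorG (colF tauF y24x18) iv115 0 = 1286048 := by decide +kernel
theorem bx18c116 : xorG (colF tauF y24x18) iv116 0 = 1446016 := by decide +kernel
theorem bx18c117 : xorG (colF tauF y24x18) iv117 0 = 89616 := by decide +kernel
theorem bx18c118 : xorG (colF tauF y24x18) iv118 0 = 989152 := by decide +kernel
theorem bx18c119 : xorG (colF tauF y24x18) iv119 0 = 456400 := by decide +kernel
theorem bx18c120 : xorG (colF tauF y24x18) iv120 0 = 1696520 := by decide +kernel
theorem bx18c121 : xorG (colF tauF y24x18) iv121 0 = 1593328 := by decide +kernel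
theorem bx18c122 : xorG (colF tauF y24x18) iv122 0 = 1934736 := by decide +kernel
theorem bx18c123 : xorG (colF tauF y24x18) iv123 0 = 2084880 := by decide +kernel
theorem bx18c124 : xorG (colF tauF y24x18) iv124 0 = 1709056 := by decide +kernel
theorem bx18c125 : xorG (colF tauF y24x18) iv125 0 = 709568 := by decide +kernel
theorem bx18c126 : xorG (colF tauF y24x18) iv126 0 = 1838896 := by decide +kernel
theorem bx18c127 : xorG (colF tauF y24x18) iv127 0 = 1106336 := by decide +kernel

theorem bits24x18 : xorG (colF tauF y24x18) invT 0 = 0 :=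
  (xorG_node (N := 0) (xorG_node (N := 1608832) (xorG_node (N := 1554664) (xorG_node (N := 1213632) (xorG_node (N := 1473800) (xorG_node (N := 1636936) (xorG_node (N := 1841120) bx18c0 (by decide +kernel) bx18c1) (by decide +kernel) (xorG_node (N := 60840) bx18c2 (by decide +kernel) bx18c3)) (by decide +kernel) (xorG_node (N := 1017664) (xorG_node (N := 811520) bx18c4 (by decide +kernel) bx18c5) (by decide +kernel) (xorG_node (N := 517440) bx18c6 (by decide +kernel) bx18c7))) (by decide +kernel) (xorG_node (N := 1374664) (xorG_node (N := 1069296) (xorG_node (N := 1408064) bx18c8 (by decide +kernel) bx18c9) (by decide +kernel) (xorG_node (N := 863408) bx18c10 (by decide +kernel) bx18c11)) (by decide +kernel) (xorG_node (N := 303416) (xorG_node (N := 1317120) bx18c12 (by decide +kernel) bx18c13) (by decide +kernel) (xorG_node (N := 1095704) bx18c14 (by decide +kernel) bx18c15)))) (by decide +kernel) (xorG_node (N := 867368) (xorG_node (N := 146888) (xorG_node (N := 643432) (xorG_node (N := 349184) bx18c16 (by decide +kernel) bx18c17) (by decide +kernel) (xorG_node (N := 836968) bx18c18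 (by decide +kernel) bx18c19)) (by decide +kernel) (xorG_node (N := 773280) (xorG_node (N := 1988928) bx18c20 (by decide +kernel) bx18c21) (by decide +kernel) (xorG_node (N := 1413600) bx18c22 (by decide +kernel) bx18c23))) (by decide +kernel) (xorG_node (N := 1016288) (xorG_node (N := 870944) (xorG_node (N := 811504) bx18c24 (by decide +kernel) bx18c25) (by decide +kernel) (xorG_node (N := 1125328) bx18c26 (by decide +kernel) bx18c27)) (by decide +kernel) (xorG_node (N := 52160) (xorG_node (N := 1738656) bx18c28 (by decide +kernel) bx18c29) (by decide +kernel) (xorG_node (N := 1727584) bx18c30 (by decide +kernel) bx18c31))))) (by decide +kernel) (xorG_node (N := 734312) (xorG_node (N := 164096) (xorG_node (N := 1938264) (xorG_node (N := 245912) (xorG_node (N := 164496) bx18c32 (by decide +kernel) bx18c33) (by decide +kernel) (xorG_node (N := 1131016) bx18c34 (by decide +kernel) bx18c35)) (by decide +kernel) (xorG_node (N := 1988544) (xorG_node (N := 1903232) bx18c36 (by decide +kernel) bx18c37) (by decide +kernel) (xorG_node (N := 744768) bx18c38 (by decide +kernel) bx18c39))) (by decide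 +kernel) (xorG_node (N := 1512024) (xorG_node (N := 270560) (xorG_node (N := 1190088) bx18c40 (by decide +kernel) bx18c41) (by decide +kernel) (xorG_node (N := 1312808) bx18c42 (by decide +kernel) bx18c43)) (by decide +kernel) (xorG_node (N := 209592) (xorG_node (N := 1905720) bx18c44 (by decide +kernel) bx18c45) (by decide +kernel) (xorG_node (N := 1967744) bx18c46 (by decide +kernel) bx18c47)))) (by decide +kernel) (xorG_node (N := 603496) (xorG_node (N := 1707816) (xorG_node (N := 560952) (xorG_node (N := 775000) bx18c48 (by decide +kernel) bx18c49) (by decide +kernel) (xorG_node (N := 89184) bx18c50 (by decide +kernel) bx18c51)) (by decide +kernel) (xorG_node (N := 1081360) (xorG_node (N := 1959264) bx18c52 (by decide +kernel) bx18c53) (by decide +kernel) (xorG_node (N := 353648) bx18c54 (by decide +kernel) bx18c55))) (by decide +kernel) (xorG_node (N := 1259584) (xorG_node (N := 461104) (xorG_node (N := 1892752) bx18c56 (by decide +kernel) bx18c57) (by decide +kernel) (xorG_node (N := 2091168) bx18c58 (by decide +kernel) bx18c59)) (by decide +kernel) (xorG_node (N := 1323888) (xorG_node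 (N := 90160) bx18c60 (by decide +kernel) bx18c61) (by decide +kernel) (xorG_node (N := 1332032) bx18c62 (by decide +kernel) bx18c63)))))) (by decide +kernel) (xorG_node (N := 1674368) (xorG_node (N := 582816) (xorG_node (N := 742224) (xorG_node (N := 1788440) (xorG_node (N := 545136) (xorG_node (N := 1691392) bx18c64 (by decide +kernel) bx18c65) (by decide +kernel) (xorG_node (N := 106096) bx18c66 (by decide +kernel) bx18c67)) (by decide +kernel) (xorG_node (N := 1514344) (xorG_node (N := 455288) bx18c68 (by decide +kernel) bx18c69) (by decide +kernel) (xorG_node (N := 1698064) bx18c70 (by decide +kernel) bx18c71))) (by decide +kernel) (xorG_node (N := 6472) (xorG_node (N := 1795672) (xorG_node (N := 1267624) bx18c72 (by decide +kernel) bx18c73) (by decide +kernel) (xorG_node (N := 528880) bx18c74 (by decide +kernel) bx18c75)) (by decide +kernel) (xorG_node (N := 1670928) (xorG_node (N := 572400) bx18c76 (by decide +kernel) bx18c77) (by decide +kernel) (xorG_node (N := 1098976) bx18c78 (by decide +kernel) bx18c79)))) (by decide +kernel) (xorG_node (N := 505840) (xorG_node (N := 1448968)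 (xorG_node (N := 1899544) (xorG_node (N := 309672) bx18c80 (by decide +kernel) bx18c81) (by decide +kernel) (xorG_node (N := 1066416) bx18c82 (by decide +kernel) bx18c83)) (by decide +kernel) (xorG_node (N := 713232) (xorG_node (N := 183392) bx18c84 (by decide +kernel) bx18c85) (by decide +kernel) (xorG_node (N := 11888) bx18c86 (by decide +kernel) bx18c87))) (by decide +kernel) (xorG_node (N := 1174520) (xorG_node (N := 224192) (xorG_node (N := 1849360) bx18c88 (by decide +kernel) bx18c89) (by decide +kernel) (xorG_node (N := 1922000) bx18c90 (by decide +kernel) bx18c91)) (by decide +kernel) (xorG_node (N := 1474616) (xorG_node (N := 864488) bx18c92 (by decide +kernel) bx18c93) (by decide +kernel) (xorG_node (N := 1683664) bx18c94 (by decide +kernel) bx18c95))))) (by decide +kernel) (xorG_node (N := 1402912) (xorG_node (N := 1465528) (xorG_node (N := 1408896) (xorG_node (N := 1477376) (xorG_node (N := 999280) bx18c96 (by decide +kernel) bx18c97) (by decide +kernel) (xorG_node (N := 636016) bx18c98 (by decide +kernel) bx18c99)) (by decide +kernel) (xorG_node (N := 242816) (xorG_node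 (N := 1083440) bx18c100 (by decide +kernel) bx18c101) (by decide +kernel) (xorG_node (N := 1522864) bx18c102 (by decide +kernel) bx18c103))) (by decide +kernel) (xorG_node (N := 238392) (xorG_node (N := 793352) (xorG_node (N := 2034064) bx18c104 (by decide +kernel) bx18c105) (by decide +kernel) (xorG_node (N := 1512088) bx18c106 (by decide +kernel) bx18c107)) (by decide +kernel) (xorG_node (N := 768048) (xorG_node (N := 931328) bx18c108 (by decide +kernel) bx18c109) (by decide +kernel) (xorG_node (N := 363568) bx18c110 (by decide +kernel) bx18c111)))) (by decide +kernel) (xorG_node (N := 242840) (xorG_node (N := 417968) (xorG_node (N := 1216016) (xorG_node (N := 1080496) bx18c112 (by decide +kernel) bx18c113) (by decide +kernel) (xorG_node (N := 62112) bx18c114 (by decide +kernel) bx18c115)) (by decide +kernel) (xorG_node (N := 1355424) (xorG_node (N := 1527696) bx18c116 (by decide +kernel) bx18c117) (by decide +kernel) (xorG_node (N := 778544) bx18c118 (by decide +kernel) bx18c119))) (by decide +kernel) (xorG_node (N := 365608) (xorG_node (N := 1145208) (xorG_node (N := 77048) bx18c120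 (by decide +kernel) bx18c121) (by decide +kernel) (xorG_node (N := 1201536) bx18c122 (by decide +kernel) bx18c123)) (by decide +kernel) (xorG_node (N := 1370448) (xorG_node (N := 1624000) bx18c124 (by decide +kernel) bx18c125) (by decide +kernel) (xorG_node (N := 831120) bx18c126 (by decide +kernel) bx18c127)))))))

end Cfsg.Agent.Lib.Compute.SB
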