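import Cfsg.Agent.Lib.Compute.SB.InvData
import Cfsg.Agent.Lib.Compute.SB.Chunk

/-!
# The parities of the types for a column of `M24` over all the involutions
-/

set_option autoImplicit false
set_option Elab.async false
set_option maxRecDepth 100000

namespace Cfsg.Agent.Lib.Compute.SB

open PTree

/-- The element for the column. -/
def y24x19 : ℕ := nat_lit 939138989584247814001712907293305479

theorem bx19c0 : xorG (colF tauF y24x19) iv0 0 = 1871232 := by decide +kernel
theorem bx19c1 : xorG (colF tauF y24x19) iv1 0 = 921104 := by decide +kernel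
theorem bx19c2 : xorG (colF tauF y24x19) iv2 0 = 491392 := by decide +kernel
theorem bx19c3 : xorG (colF tauF y24x19) iv3 0 = 1261088 := by decide +kernel
theorem bx19c4 : xorG (colF tauF y24x19) iv4 0 = 595240 := by decide +kernel
theorem bx19c5 : xorG (colF tauF y24x19) iv5 0 = 273200 := by decide +kernel
theorem bx19c6 : xorG (colF tauF y24x19) iv6 0 = 1898896 := by decide +kernel
theorem bx19c7 : xorG (colF tauF y24x19) iv7 0 = 1636512 := by decide +kernel
theorem bx19c8 : xorG (colF tauF y24x19) iv8 0 = 1484272 := by decide +kernel
theorem bx19c9 : xorG (colF tauF y24x19) iv9 0 = 556736 := by decide +kernel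
theorem bx19c10 : xorG (colF tauF y24x19) iv10 0 = 1696080 := by decide +kernel
theorem bx19c11 : xorG (colF tauF y24x19) iv11 0 = 1106096 := by decide +kernel
theorem bx19c12 : xorG (colF tauF y24x19) iv12 0 = 1155472 := by decide +kernel
theorem bx19c13 : xorG (colF tauF y24x19) iv13 0 = 1190240 := by decide +kernel
theorem bx19c14 : xorG (colF tauF y24x19) iv14 0 = 1663616 := by decide +kernel
theorem bx19c15 : xorG (colF tauF y24x19) iv15 0 = 1464448 := by decide +kernel
theorem bx19c16 : xorG (colF tauF y24x19) iv16 0 = 1790080 := by decide +kernel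
theorem bx19c17 : xorG (colF tauF y24x19) iv17 0 = 1105392 := by decide +kernel
theorem bx19c18 : xorG (colF tauF y24x19) iv18 0 = 214432 := by decide +kernel
theorem bx19c19 : xorG (colF tauF y24x19) iv19 0 = 1910056 := by decide +kernel
theorem bx19c20 : xorG (colF tauF y24x19) iv20 0 = 850064 := by decide +kernel
theorem bx19c21 : xorG (colF tauF y24x19) iv21 0 = 1684576 := by decide +kernel
theorem bx19c22 : xorG (colF tauF y24x19) iv22 0 = 30368 := by decide +kernel
theorem bx19c23 : xorG (colF tauF y24x19) iv23 0 = 86384 := by decide +kernel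
theorem bx19c24 : xorG (colF tauF y24x19) iv24 0 = 1334688 := by decide +kernel
theorem bx19c25 : xorG (colF tauF y24x19) iv25 0 = 1779744 := by decide +kernel
theorem bx19c26 : xorG (colF tauF y24x19) iv26 0 = 235888 := by decide +kernel
theorem bx19c27 : xorG (colF tauF y24x19) iv27 0 = 905920 := by decide +kernel
theorem bx19c28 : xorG (colF tauF y24x19) iv28 0 = 1023872 := by decide +kernel
theorem bx19c29 : xorG (colF tauF y24x19) iv29 0 = 625744 := by decide +kernel
theorem bx19c30 : xorG (colF tauF y24x19) iv30 0 = 1089584 := by decide +kernel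
theorem bx19c31 : xorG (colF tauF y24x19) iv31 0 = 450880 := by decide +kernel
theorem bx19c32 : xorG (colF tauF y24x19) iv32 0 = 743104 := by decide +kernel
theorem bx19c33 : xorG (colF tauF y24x19) iv33 0 = 565248 := by decide +kernel
theorem bx19c34 : xorG (colF tauF y24x19) iv34 0 = 63680 := by decide +kernel
theorem bx19c35 : xorG (colF tauF y24x19) iv35 0 = 42720 := by decide +kernel
theorem bx19c36 : xorG (colF tauF y24x19) iv36 0 = 651432 := by decide +kernel
theorem bx19c37 : xorG (colF tauF y24x19) iv37 0 = 768288 := by decide +kernel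
theorem bx19c38 : xorG (colF tauF y24x19) iv38 0 = 1018848 := by decide +kernel
theorem bx19c39 : xorG (colF tauF y24x19) iv39 0 = 1691776 := by decide +kernel
theorem bx19c40 : xorG (colF tauF y24x19) iv40 0 = 646784 := by decide +kernel
theorem bx19c41 : xorG (colF tauF y24x19) iv41 0 = 1194064 := by decide +kernel
theorem bx19c42 : xorG (colF tauF y24x19) iv42 0 = 529728 := by decide +kernel
theorem bx19c43 : xorG (colF tauF y24x19) iv43 0 = 48704 := by decide +kernel
theorem bx19c44 : xorG (colF tauF y24x19) iv44 0 = 1660632 := by decide +kernel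
theorem bx19c45 : xorG (colF tauF y24x19) iv45 0 = 1872720 := by decide +kernel
theorem bx19c46 : xorG (colF tauF y24x19) iv46 0 = 38160 := by decide +kernel
theorem bx19c47 : xorG (colF tauF y24x19) iv47 0 = 1665400 := by decide +kernel
theorem bx19c48 : xorG (colF tauF y24x19) iv48 0 = 1699600 := by decide +kernel
theorem bx19c49 : xorG (colF tauF y24x19) iv49 0 = 244608 := by decide +kernel
theorem bx19c50 : xorG (colF tauF y24x19) iv50 0 = 462368 := by decide +kernel
theorem bx19c51 : xorG (colF tauF y24x19) iv51 0 = 1535584 := by decide +kernel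
theorem bx19c52 : xorG (colF tauF y24x19) iv52 0 = 1682976 := by decide +kernel
theorem bx19c53 : xorG (colF tauF y24x19) iv53 0 = 342288 := by decide +kernel
theorem bx19c54 : xorG (colF tauF y24x19) iv54 0 = 14176 := by decide +kernel
theorem bx19c55 : xorG (colF tauF y24x19) iv55 0 = 1411360 := by decide +kernel
theorem bx19c56 : xorG (colF tauF y24x19) iv56 0 = 967344 := by decide +kernel
theorem bx19c57 : xorG (colF tauF y24x19) iv57 0 = 1433376 := by decide +kernel
theorem bx19c58 : xorG (colF tauF y24x19) iv58 0 = 1474784 := by decide +kernel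
theorem bx19c59 : xorG (colF tauF y24x19) iv59 0 = 413056 := by decide +kernel
theorem bx19c60 : xorG (colF tauF y24x19) iv60 0 = 1051520 := by decide +kernel
theorem bx19c61 : xorG (colF tauF y24x19) iv61 0 = 766176 := by decide +kernel
theorem bx19c62 : xorG (colF tauF y24x19) iv62 0 = 30752 := by decide +kernel
theorem bx19c63 : xorG (colF tauF y24x19) iv63 0 = 701328 := by decide +kernel
theorem bx19c64 : xorG (colF tauF y24x19) iv64 0 = 385408 := by decide +kernel
theorem bx19c65 : xorG (colF tauF y24x19) iv65 0 = 534984 := by decide +kernel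
theorem bx19c66 : xorG (colF tauF y24x19) iv66 0 = 1275616 := by decide +kernel
theorem bx19c67 : xorG (colF tauF y24x19) iv67 0 = 1593376 := by decide +kernel
theorem bx19c68 : xorG (colF tauF y24x19) iv68 0 = 1780128 := by decide +kernel
theorem bx19c69 : xorG (colF tauF y24x19) iv69 0 = 503072 := by decide +kernel
theorem bx19c70 : xorG (colF tauF y24x19) iv70 0 = 2001840 := by decide +kernel
theorem bx19c71 : xorG (colF tauF y24x19) iv71 0 = 328336 := by decide +kernel
theorem bx19c72 : xorG (colF tauF y24x19) iv72 0 = 1175952 := by decide +kernel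
theorem bx19c73 : xorG (colF tauF y24x19) iv73 0 = 1414352 := by decide +kernel
theorem bx19c74 : xorG (colF tauF y24x19) iv74 0 = 1224864 := by decide +kernel
theorem bx19c75 : xorG (colF tauF y24x19) iv75 0 = 1124056 := by decide +kernel
theorem bx19c76 : xorG (colF tauF y24x19) iv76 0 = 1428256 := by decide +kernel
theorem bx19c77 : xorG (colF tauF y24x19) iv77 0 = 1067048 := by decide +kernel
theorem bx19c78 : xorG (colF tauF y24x19) iv78 0 = 21256 := by decide +kernel
theorem bx19c79 : xorG (colF tauF y24x19) iv79 0 = 147752 := by decide +kernel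
theorem bx19c80 : xorG (colF tauF y24x19) iv80 0 = 1071400 := by decide +kernel
theorem bx19c81 : xorG (colF tauF y24x19) iv81 0 = 315136 := by decide +kernel
theorem bx19c82 : xorG (colF tauF y24x19) iv82 0 = 453024 := by decide +kernel
theorem bx19c83 : xorG (colF tauF y24x19) iv83 0 = 1512136 := by decide +kernel
theorem bx19c84 : xorG (colF tauF y24x19) iv84 0 = 138576 := by decide +kernel
theorem bx19c85 : xorG (colF tauF y24x19) iv85 0 = 150048 := by decide +kernel
theorem bx19c86 : xorG (colF tauF y24x19) iv86 0 = 1472352 := by decide +kernel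
theorem bx19c87 : xorG (colF tauF y24x19) iv87 0 = 522592 := by decide +kernel
theorem bx19c88 : xorG (colF tauF y24x19) iv88 0 = 606496 := by decide +kernel
theorem bx19c89 : xorG (colF tauF y24x19) iv89 0 = 1834784 := by decide +kernel
theorem bx19c90 : xorG (colF tauF y24x19) iv90 0 = 801088 := by decide +kernel
theorem bx19c91 : xorG (colF tauF y24x19) iv91 0 = 1311504 := by decide +kernel
theorem bx19c92 : xorG (colF tauF y24x19) iv92 0 = 1938592 := by decide +kernel
theorem bx19c93 : xorG (colF tauF y24x19) iv93 0 = 836256 := by decide +kernel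
theorem bx19c94 : xorG (colF tauF y24x19) iv94 0 = 740016 := by decide +kernel
theorem bx19c95 : xorG (colF tauF y24x19) iv95 0 = 271720 := by decide +kernel
theorem bx19c96 : xorG (colF tauF y24x19) iv96 0 = 1636192 := by decide +kernel
theorem bx19c97 : xorG (colF tauF y24x19) iv97 0 = 1319648 := by decide +kernel
theorem bx19c98 : xorG (colF tauF y24x19) iv98 0 = 1354208 := by decide +kernel
theorem bx19c99 : xorG (colF tauF y24x19) iv99 0 = 1283328 := by decide +kernel
theorem bx19c100 : xorG (colF tauF y24x19) iv100 0 = 1841344 := by decide +kernel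
theorem bx19c101 : xorG (colF tauF y24x19) iv101 0 = 302080 := by decide +kernel
theorem bx19c102 : xorG (colF tauF y24x19) iv102 0 = 358512 := by decide +kernel
theorem bx19c103 : xorG (colF tauF y24x19) iv103 0 = 1265056 := by decide +kernel
theorem bx19c104 : xorG (colF tauF y24x19) iv104 0 = 1495392 := by decide +kernel
theorem bx19c105 : xorG (colF tauF y24x19) iv105 0 = 2003008 := by decide +kernel
theorem bx19c106 : xorG (colF tauF y24x19) iv106 0 = 1443232 := by decide +kernel
theorem bx19c107 : xorG (colF tauF y24x19) iv107 0 = 1752192 := by decide +kernel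
theorem bx19c108 : xorG (colF tauF y24x19) iv108 0 = 342176 := by decide +kernel
theorem bx19c109 : xorG (colF tauF y24x19) iv109 0 = 993696 := by decide +kernel
theorem bx19c110 : xorG (colF tauF y24x19) iv110 0 = 981440 := by decide +kernel
theorem bx19c111 : xorG (colF tauF y24x19) iv111 0 = 670176 := by decide +kernel
theorem bx19c112 : xorG (colF tauF y24x19) iv112 0 = 133632 := by decide +kernel
theorem bx19c113 : xorG (colF tauF y24x19) iv113 0 = 1458208 := by decide +kernel
theorem bx19c114 : xorG (colF tauF y24x19) iv114 0 = 410120 := by decide +kernel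
theorem bx19c115 : xorG (colF tauF y24x19) iv115 0 = 1458472 := by decide +kernel
theorem bx19c116 : xorG (colF tauF y24x19) iv116 0 = 392864 := by decide +kernel
theorem bx19c117 : xorG (colF tauF y24x19) iv117 0 = 1114448 := by decide +kernel
theorem bx19c118 : xorG (colF tauF y24x19) iv118 0 = 162992 := by decide +kernel
theorem bx19c119 : xorG (colF tauF y24x19) iv119 0 = 446464 := by decide +kernel
theorem bx19c120 : xorG (colF tauF y24x19) iv120 0 = 1135392 := by decide +kernel
theorem bx19c121 : xorG (colF tauF y24x19) iv121 0 = 819840 := by decide +kernel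
theorem bx19c122 : xorG (colF tauF y24x19) iv122 0 = 547760 := by decide +kernel
theorem bx19c123 : xorG (colF tauF y24x19) iv123 0 = 1564112 := by decide +kernel
theorem bx19c124 : xorG (colF tauF y24x19) iv124 0 = 434960 := by decide +kernel
theorem bx19c125 : xorG (colF tauF y24x19) iv125 0 = 66960 := by decide +kernel
theorem bx19c126 : xorG (colF tauF y24x19) iv126 0 = 261296 := by decide +kernel
theorem bx19c127 : xorG (colF tauF y24x19) iv127 0 = 903088 := by decide +kernel

theorem bits24x19 : xorG (colF tauF y24x19) invT 0 = 616 :=
  (xorG_node (N := 616) (xorG_node (N := 621496) (xorG_node (N := 568832) (xorG_node (N := 1623912) (xorG_node (N := 249624) (xorG_node (N := 186928) (xorG_node (N := 1215376) bx19c0 (by decide +kernel) bx19c1) (by decide +kernel) (xorG_node (N := 1065376) bx19c2 (by decide +kernel) bx19c3)) (by decide +kernel) (xorG_node (N := 73000) (xorG_node (N := 859672) bx19c4 (by decide +kernel) bx19c5) (by decide +kernel) (xorG_node (N := 262960) bx19c6 (by decide +kernel) bx19c7))) (by decide +kernel) (xorG_node (N := 723056) (xorG_node (N := 1038992) (xorG_node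 (N := 2022256) bx19c8 (by decide +kernel) bx19c9) (by decide +kernel) (xorG_node (N := 1638880) bx19c10 (by decide +kernel) bx19c11)) (by decide +kernel) (xorG_node (N := 299744) (xorG_node (N := 755952) bx19c12 (by decide +kernel) bx19c13) (by decide +kernel) (xorG_node (N := 997904) bx19c14 (by decide +kernel) bx19c15)))) (by decide +kernel) (xorG_node (N := 1059176) (xorG_node (N := 218328) (xorG_node (N := 1179640) (xorG_node (N := 1019248) bx19c16 (by decide +kernel) bx19c17) (by decide +kernel) (xorG_node (N := 1994888) bx19c18 (by decide +kernel) bx19c19)) (by decide +kernel) (xorG_node (N := 1239840) (xorG_node (N := 1527024) bx19c20 (by decide +kernel) bx19c21) (by decide +kernel) (xorG_node (N := 108496) bx19c22 (by decide +kernel) bx19c23))) (by decide +kernel) (xorG_node (N := 1801648) (xorG_node (N := 1130256) (xorG_node (N := 1012864) bx19c24 (by decide +kernel) bx19c25) (by decide +kernel) (xorG_node (N := 1985456) bx19c26 (by decide +kernel) bx19c27)) (by decide +kernel) (xorG_node (N := 541344) (xorG_node (N := 394192) bx19c28 (by decide +kernel) bx19c29) (by decide +kernel)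 (xorG_node (N := 1982832) bx19c30 (by decide +kernel) bx19c31))))) (by decide +kernel) (xorG_node (N := 251320) (xorG_node (N := 1666616) (xorG_node (N := 1089032) (xorG_node (N := 233184) (xorG_node (N := 259264) bx19c32 (by decide +kernel) bx19c33) (by decide +kernel) (xorG_node (N := 32288) bx19c34 (by decide +kernel) bx19c35)) (by decide +kernel) (xorG_node (N := 1118440) (xorG_node (N := 150408) bx19c36 (by decide +kernel) bx19c37) (by decide +kernel) (xorG_node (N := 1530720) bx19c38 (by decide +kernel) bx19c39))) (by decide +kernel) (xorG_node (N := 618544) (xorG_node (N := 1134032) (xorG_node (N := 779984) bx19c40 (by decide +kernel) bx19c41) (by decide +kernel) (xorG_node (N := 699136) bx19c42 (by decide +kernel) bx19c43)) (by decide +kernel) (xorG_node (N := 1064416) (xorG_node (N := 902536) bx19c44 (by decide +kernel) bx19c45) (by decide +kernel) (xorG_node (N := 1965160) bx19c46 (by decide +kernel) bx19c47)))) (by decide +kernel) (xorG_node (N := 1751424) (xorG_node (N := 5536) (xorG_node (N := 1651920) (xorG_node (N := 1791120) bx19c48 (by decide +kernel) bx19c49) (by decide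 +kernel) (xorG_node (N := 1204288) bx19c50 (by decide +kernel) bx19c51)) (by decide +kernel) (xorG_node (N := 1122672) (xorG_node (N := 825136) bx19c52 (by decide +kernel) bx19c53) (by decide +kernel) (xorG_node (N := 1422912) bx19c54 (by decide +kernel) bx19c55))) (by decide +kernel) (xorG_node (N := 1223712) (xorG_node (N := 612592) (xorG_node (N := 1645968) bx19c56 (by decide +kernel) bx19c57) (by decide +kernel) (xorG_node (N := 1099104) bx19c58 (by decide +kernel) bx19c59)) (by decide +kernel) (xorG_node (N := 1701072) (xorG_node (N := 1293152) bx19c60 (by decide +kernel) bx19c61) (by decide +kernel) (xorG_node (N := 708528) bx19c62 (by decide +kernel) bx19c63)))))) (by decide +kernel) (xorG_node (N := 612816) (xorG_node (N := 622208) (xorG_node (N := 774968) (xorG_node (N := 205608) (xorG_node (N := 192136) (xorG_node (N := 641096) bx19c64 (by decide +kernel) bx19c65) (by decide +kernel) (xorG_node (N := 599744) bx19c66 (by decide +kernel) bx19c67)) (by decide +kernel) (xorG_node (N := 249248) (xorG_node (N := 1885312) bx19c68 (by decide +kernel) bx19c69) (by decide +kernel) (xorG_node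 (N := 2066720) bx19c70 (by decide +kernel) bx19c71))) (by decide +kernel) (xorG_node (N := 552976) (xorG_node (N := 1014584) (xorG_node (N := 290112) bx19c72 (by decide +kernel) bx19c73) (by decide +kernel) (xorG_node (N := 202360) bx19c74 (by decide +kernel) bx19c75)) (by decide +kernel) (xorG_node (N := 494376) (xorG_node (N := 360712) bx19c76 (by decide +kernel) bx19c77) (by decide +kernel) (xorG_node (N := 131616) bx19c78 (by decide +kernel) bx19c79)))) (by decide +kernel) (xorG_node (N := 176056) (xorG_node (N := 1478704) (xorG_node (N := 347456) (xorG_node (N := 1345064) bx19c80 (by decide +kernel) bx19c81) (by decide +kernel) (xorG_node (N := 1174376) bx19c82 (by decide +kernel) bx19c83)) (by decide +kernel) (xorG_node (N := 1300848) (xorG_node (N := 6000) bx19c84 (by decide +kernel) bx19c85) (by decide +kernel) (xorG_node (N := 1281536) bx19c86 (by decide +kernel) bx19c87))) (by decide +kernel) (xorG_node (N := 278408) (xorG_node (N := 1705552) (xorG_node (N := 1195520) bx19c88 (by decide +kernel) bx19c89) (by decide +kernel) (xorG_node (N := 1587280) bx19c90 (by decide +kernel)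 bx19c91)) (by decide +kernel) (xorG_node (N := 1456600) (xorG_node (N := 87552) bx19c92 (by decide +kernel) bx19c93) (by decide +kernel) (xorG_node (N := 487384) bx19c94 (by decide +kernel) bx19c95))))) (by decide +kernel) (xorG_node (N := 75600) (xorG_node (N := 1258832) (xorG_node (N := 2054256) (xorG_node (N := 915808) (xorG_node (N := 972160) bx19c96 (by decide +kernel) bx19c97) (by decide +kernel) (xorG_node (N := 212192) bx19c98 (by decide +kernel) bx19c99)) (by decide +kernel) (xorG_node (N := 1745168) (xorG_node (N := 1610944) bx19c100 (by decide +kernel) bx19c101) (by decide +kernel) (xorG_node (N := 1193424) bx19c102 (by decide +kernel) bx19c103))) (by decide +kernel) (xorG_node (N := 1862944) (xorG_node (N := 1358848) (xorG_node (N := 524576) bx19c104 (by decide +kernel) bx19c105) (by decide +kernel) (xorG_node (N := 834848) bx19c106 (by decide +kernel) bx19c107)) (by decide +kernel) (xorG_node (N := 708896) (xorG_node (N := 528640) bx19c108 (by decide +kernel) bx19c109) (by decide +kernel) (xorG_node (N := 49184) bx19c110 (by decide +kernel) bx19c111)))) (by decide +kernel)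 (xorG_node (N := 1446400) (xorG_node (N := 1465920) (xorG_node (N := 153856) (xorG_node (N := 1333792) bx19c112 (by decide +kernel) bx19c113) (by decide +kernel) (xorG_node (N := 1180448) bx19c114 (by decide +kernel) bx19c115)) (by decide +kernel) (xorG_node (N := 1050432) (xorG_node (N := 1375216) bx19c116 (by decide +kernel) bx19c117) (by decide +kernel) (xorG_node (N := 322736) bx19c118 (by decide +kernel) bx19c119))) (by decide +kernel) (xorG_node (N := 543808) (xorG_node (N := 1267136) (xorG_node (N := 1888672) bx19c120 (by decide +kernel) bx19c121) (by decide +kernel) (xorG_node (N := 1017440) bx19c122 (by decide +kernel) bx19c123)) (by decide +kernel) (xorG_node (N := 1777024) (xorG_node (N := 1549952) bx19c124 (by decide +kernel) bx19c125) (by decide +kernel) (xorG_node (N := 801536) bx19c126 (by decide +kernel) bx19c127)))))))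

end Cfsg.Agent.Lib.Compute.SB
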