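import Cfsg.Agent.Lib.Compute.SB.InvData
import Cfsg.Agent.Lib.Compute.SB.Chunk

/-!
# The parities of the types for a column of `M24` over all the involutions
-/

set_option autoImplicit false
set_option Elab.async false
set_option maxRecDepth 100000

namespace Cfsg.Agent.Lib.Compute.SB

open PTree

/-- The element for the column. -/
def y24x20 : ℕ := nat_lit 761002406818844830247445050273926541

theorem bx20c0 : xorG (colF tauF y24x20) iv0 0 = 454752 := by decide +kernel
theorem bx20c1 : xorG (colF tauF y24x20) iv1 0 = 1245344 := by decide +kernel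
theorem bx20c2 : xorG (colF tauF y24x20) iv2 0 = 857056 := by decide +kernel
theorem bx20c3 : xorG (colF tauF y24x20) iv3 0 = 1644816 := by decide +kernel
theorem bx20c4 : xorG (colF tauF y24x20) iv4 0 = 2027824 := by decide +kernel
theorem bx20c5 : xorG (colF tauF y24x20) iv5 0 = 46112 := by decide +kernel
theorem bx20c6 : xorG (colF tauF y24x20) iv6 0 = 1559008 := by decide +kernel
theorem bx20c7 : xorG (colF tauF y24x20) iv7 0 = 698600 := by decide +kernel
theorem bx20c8 : xorG (colF tauF y24x20) iv8 0 = 1762944 := by decide +kernel
theorem bx20c9 : xorG (colF tauF y24x20) iv9 0 = 1494288 := by decide +kernel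
theorem bx20c10 : xorG (colF tauF y24x20) iv10 0 = 1288400 := by decide +kernel
theorem bx20c11 : xorG (colF tauF y24x20) iv11 0 = 522752 := by decide +kernel
theorem bx20c12 : xorG (colF tauF y24x20) iv12 0 = 1802128 := by decide +kernel
theorem bx20c13 : xorG (colF tauF y24x20) iv13 0 = 2046304 := by decide +kernel
theorem bx20c14 : xorG (colF tauF y24x20) iv14 0 = 621344 := by decide +kernel
theorem bx20c15 : xorG (colF tauF y24x20) iv15 0 = 151712 := by decide +kernel
theorem bx20c16 : xorG (colF tauF y24x20) iv16 0 = 198480 := by decide +kernel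
theorem bx20c17 : xorG (colF tauF y24x20) iv17 0 = 1712736 := by decide +kernel
theorem bx20c18 : xorG (colF tauF y24x20) iv18 0 = 1979200 := by decide +kernel
theorem bx20c19 : xorG (colF tauF y24x20) iv19 0 = 1821040 := by decide +kernel
theorem bx20c20 : xorG (colF tauF y24x20) iv20 0 = 726176 := by decide +kernel
theorem bx20c21 : xorG (colF tauF y24x20) iv21 0 = 1561312 := by decide +kernel
theorem bx20c22 : xorG (colF tauF y24x20) iv22 0 = 831760 := by decide +kernel
theorem bx20c23 : xorG (colF tauF y24x20) iv23 0 = 925424 := by decide +kernel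
theorem bx20c24 : xorG (colF tauF y24x20) iv24 0 = 1697232 := by decide +kernel
theorem bx20c25 : xorG (colF tauF y24x20) iv25 0 = 1037920 := by decide +kernel
theorem bx20c26 : xorG (colF tauF y24x20) iv26 0 = 1524480 := by decide +kernel
theorem bx20c27 : xorG (colF tauF y24x20) iv27 0 = 1379712 := by decide +kernel
theorem bx20c28 : xorG (colF tauF y24x20) iv28 0 = 1031576 := by decide +kernel
theorem bx20c29 : xorG (colF tauF y24x20) iv29 0 = 1093040 := by decide +kernel
theorem bx20c30 : xorG (colF tauF y24x20) iv30 0 = 1274528 := by decide +kernel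
theorem bx20c31 : xorG (colF tauF y24x20) iv31 0 = 333632 := by decide +kernel
theorem bx20c32 : xorG (colF tauF y24x20) iv32 0 = 1068328 := by decide +kernel
theorem bx20c33 : xorG (colF tauF y24x20) iv33 0 = 788864 := by decide +kernel
theorem bx20c34 : xorG (colF tauF y24x20) iv34 0 = 1846864 := by decide +kernel
theorem bx20c35 : xorG (colF tauF y24x20) iv35 0 = 1111216 := by decide +kernel
theorem bx20c36 : xorG (colF tauF y24x20) iv36 0 = 682344 := by decide +kernel
theorem bx20c37 : xorG (colF tauF y24x20) iv37 0 = 1322720 := by decide +kernel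
theorem bx20c38 : xorG (colF tauF y24x20) iv38 0 = 893696 := by decide +kernel
theorem bx20c39 : xorG (colF tauF y24x20) iv39 0 = 221136 := by decide +kernel
theorem bx20c40 : xorG (colF tauF y24x20) iv40 0 = 390672 := by decide +kernel
theorem bx20c41 : xorG (colF tauF y24x20) iv41 0 = 35760 := by decide +kernel
theorem bx20c42 : xorG (colF tauF y24x20) iv42 0 = 959504 := by decide +kernel
theorem bx20c43 : xorG (colF tauF y24x20) iv43 0 = 904872 := by decide +kernel
theorem bx20c44 : xorG (colF tauF y24x20) iv44 0 = 1542816 := by decide +kernel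
theorem bx20c45 : xorG (colF tauF y24x20) iv45 0 = 1488976 := by decide +kernel
theorem bx20c46 : xorG (colF tauF y24x20) iv46 0 = 1648048 := by decide +kernel
theorem bx20c47 : xorG (colF tauF y24x20) iv47 0 = 387296 := by decide +kernel
theorem bx20c48 : xorG (colF tauF y24x20) iv48 0 = 1328032 := by decide +kernel
theorem bx20c49 : xorG (colF tauF y24x20) iv49 0 = 424832 := by decide +kernel
theorem bx20c50 : xorG (colF tauF y24x20) iv50 0 = 1711520 := by decide +kernel
theorem bx20c51 : xorG (colF tauF y24x20) iv51 0 = 1489664 := by decide +kernel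
theorem bx20c52 : xorG (colF tauF y24x20) iv52 0 = 1730768 := by decide +kernel
theorem bx20c53 : xorG (colF tauF y24x20) iv53 0 = 1496608 := by decide +kernel
theorem bx20c54 : xorG (colF tauF y24x20) iv54 0 = 1732512 := by decide +kernel
theorem bx20c55 : xorG (colF tauF y24x20) iv55 0 = 889984 := by decide +kernel
theorem bx20c56 : xorG (colF tauF y24x20) iv56 0 = 1816704 := by decide +kernel
theorem bx20c57 : xorG (colF tauF y24x20) iv57 0 = 2043376 := by decide +kernel
theorem bx20c58 : xorG (colF tauF y24x20) iv58 0 = 1752736 := by decide +kernel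
theorem bx20c59 : xorG (colF tauF y24x20) iv59 0 = 367328 := by decide +kernel
theorem bx20c60 : xorG (colF tauF y24x20) iv60 0 = 499600 := by decide +kernel
theorem bx20c61 : xorG (colF tauF y24x20) iv61 0 = 272000 := by decide +kernel
theorem bx20c62 : xorG (colF tauF y24x20) iv62 0 = 659264 := by decide +kernel
theorem bx20c63 : xorG (colF tauF y24x20) iv63 0 = 1505248 := by decide +kernel
theorem bx20c64 : xorG (colF tauF y24x20) iv64 0 = 2031936 := by decide +kernel
theorem bx20c65 : xorG (colF tauF y24x20) iv65 0 = 9120 := by decide +kernel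
theorem bx20c66 : xorG (colF tauF y24x20) iv66 0 = 100240 := by decide +kernel
theorem bx20c67 : xorG (colF tauF y24x20) iv67 0 = 1698704 := by decide +kernel
theorem bx20c68 : xorG (colF tauF y24x20) iv68 0 = 268480 := by decide +kernel
theorem bx20c69 : xorG (colF tauF y24x20) iv69 0 = 1602496 := by decide +kernel
theorem bx20c70 : xorG (colF tauF y24x20) iv70 0 = 1071616 := by decide +kernel
theorem bx20c71 : xorG (colF tauF y24x20) iv71 0 = 1522592 := by decide +kernel
theorem bx20c72 : xorG (colF tauF y24x20) iv72 0 = 709536 := by decide +kernel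
theorem bx20c73 : xorG (colF tauF y24x20) iv73 0 = 428544 := by decide +kernel
theorem bx20c74 : xorG (colF tauF y24x20) iv74 0 = 464512 := by decide +kernel
theorem bx20c75 : xorG (colF tauF y24x20) iv75 0 = 348416 := by decide +kernel
theorem bx20c76 : xorG (colF tauF y24x20) iv76 0 = 1633328 := by decide +kernel
theorem bx20c77 : xorG (colF tauF y24x20) iv77 0 = 1441792 := by decide +kernel
theorem bx20c78 : xorG (colF tauF y24x20) iv78 0 = 1180424 := by decide +kernel
theorem bx20c79 : xorG (colF tauF y24x20) iv79 0 = 17192 := by decide +kernel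
theorem bx20c80 : xorG (colF tauF y24x20) iv80 0 = 283392 := by decide +kernel
theorem bx20c81 : xorG (colF tauF y24x20) iv81 0 = 580640 := by decide +kernel
theorem bx20c82 : xorG (colF tauF y24x20) iv82 0 = 735792 := by decide +kernel
theorem bx20c83 : xorG (colF tauF y24x20) iv83 0 = 434736 := by decide +kernel
theorem bx20c84 : xorG (colF tauF y24x20) iv84 0 = 927400 := by decide +kernel
theorem bx20c85 : xorG (colF tauF y24x20) iv85 0 = 1233952 := by decide +kernel
theorem bx20c86 : xorG (colF tauF y24x20) iv86 0 = 2053904 := by decide +kernel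
theorem bx20c87 : xorG (colF tauF y24x20) iv87 0 = 1515264 := by decide +kernel
theorem bx20c88 : xorG (colF tauF y24x20) iv88 0 = 1807456 := by decide +kernel
theorem bx20c89 : xorG (colF tauF y24x20) iv89 0 = 11840 := by decide +kernel
theorem bx20c90 : xorG (colF tauF y24x20) iv90 0 = 764160 := by decide +kernel
theorem bx20c91 : xorG (colF tauF y24x20) iv91 0 = 728456 := by decide +kernel
theorem bx20c92 : xorG (colF tauF y24x20) iv92 0 = 1462816 := by decide +kernel
theorem bx20c93 : xorG (colF tauF y24x20) iv93 0 = 1460264 := by decide +kernel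
theorem bx20c94 : xorG (colF tauF y24x20) iv94 0 = 1331208 := by decide +kernel
theorem bx20c95 : xorG (colF tauF y24x20) iv95 0 = 21256 := by decide +kernel
theorem bx20c96 : xorG (colF tauF y24x20) iv96 0 = 1189088 := by decide +kernel
theorem bx20c97 : xorG (colF tauF y24x20) iv97 0 = 1578592 := by decide +kernel
theorem bx20c98 : xorG (colF tauF y24x20) iv98 0 = 77824 := by decide +kernel
theorem bx20c99 : xorG (colF tauF y24x20) iv99 0 = 1246912 := by decide +kernel
theorem bx20c100 : xorG (colF tauF y24x20) iv100 0 = 616272 := by decide +kernel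
theorem bx20c101 : xorG (colF tauF y24x20) iv101 0 = 430304 := by decide +kernel
theorem bx20c102 : xorG (colF tauF y24x20) iv102 0 = 879152 := by decide +kernel
theorem bx20c103 : xorG (colF tauF y24x20) iv103 0 = 1026240 := by decide +kernel
theorem bx20c104 : xorG (colF tauF y24x20) iv104 0 = 810320 := by decide +kernel
theorem bx20c105 : xorG (colF tauF y24x20) iv105 0 = 8192 := by decide +kernel
theorem bx20c106 : xorG (colF tauF y24x20) iv106 0 = 1621536 := by decide +kernel
theorem bx20c107 : xorG (colF tauF y24x20) iv107 0 = 1727136 := by decide +kernel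
theorem bx20c108 : xorG (colF tauF y24x20) iv108 0 = 1660352 := by decide +kernel
theorem bx20c109 : xorG (colF tauF y24x20) iv109 0 = 1167552 := by decide +kernel
theorem bx20c110 : xorG (colF tauF y24x20) iv110 0 = 1680320 := by decide +kernel
theorem bx20c111 : xorG (colF tauF y24x20) iv111 0 = 1484768 := by decide +kernel
theorem bx20c112 : xorG (colF tauF y24x20) iv112 0 = 36704 := by decide +kernel
theorem bx20c113 : xorG (colF tauF y24x20) iv113 0 = 142560 := by decide +kernel
theorem bx20c114 : xorG (colF tauF y24x20) iv114 0 = 568192 := by decide +kernel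
theorem bx20c115 : xorG (colF tauF y24x20) iv115 0 = 1089672 := by decide +kernel
theorem bx20c116 : xorG (colF tauF y24x20) iv116 0 = 915520 := by decide +kernel
theorem bx20c117 : xorG (colF tauF y24x20) iv117 0 = 547120 := by decide +kernel
theorem bx20c118 : xorG (colF tauF y24x20) iv118 0 = 45600 := by decide +kernel
theorem bx20c119 : xorG (colF tauF y24x20) iv119 0 = 815024 := by decide +kernel
theorem bx20c120 : xorG (colF tauF y24x20) iv120 0 = 1164432 := by decide +kernel
theorem bx20c121 : xorG (colF tauF y24x20) iv121 0 = 1645584 := by decide +kernel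
theorem bx20c122 : xorG (colF tauF y24x20) iv122 0 = 1667744 := by decide +kernel
theorem bx20c123 : xorG (colF tauF y24x20) iv123 0 = 520192 := by decide +kernel
theorem bx20c124 : xorG (colF tauF y24x20) iv124 0 = 256 := by decide +kernel
theorem bx20c125 : xorG (colF tauF y24x20) iv125 0 = 440736 := by decide +kernel
theorem bx20c126 : xorG (colF tauF y24x20) iv126 0 = 1665584 := by decide +kernel
theorem bx20c127 : xorG (colF tauF y24x20) iv127 0 = 1945360 := by decide +kernel

theorem bits24x20 : xorG (colF tauF y24x20) invT 0 = 616 :=
  (xorG_node (N := 616) (xorG_node (N := 2049560) (xorG_node (N := 711520) (xorG_node (N := 331544) (xorG_node (N := 793384) (xorG_node (N := 393008) (xorG_node (N := 1175744) bx20c0 (by decide +kernel) bx20c1) (by decide +kernel) (xorG_node (N := 1313776) bx20c2 (by decide +kernel) bx20c3)) (by decide +kernel) (xorG_node (N := 615448) (xorG_node (N := 1967376) bx20c4 (by decide +kernel) bx20c5) (by decide +kernel) (xorG_node (N := 2056456) bx20c6 (by decide +kernel) bx20c7))) (by decide +kernel) (xorG_node (N := 1643568) (xorG_node (N := 555328) (xorG_node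 (N := 928656) bx20c8 (by decide +kernel) bx20c9) (by decide +kernel) (xorG_node (N := 283344) bx20c10 (by decide +kernel) bx20c11)) (by decide +kernel) (xorG_node (N := 1273200) (xorG_node (N := 1328880) bx20c12 (by decide +kernel) bx20c13) (by decide +kernel) (xorG_node (N := 994176) bx20c14 (by decide +kernel) bx20c15)))) (by decide +kernel) (xorG_node (N := 1033336) (xorG_node (N := 1099424) (xorG_node (N := 1482496) (xorG_node (N := 1123632) bx20c16 (by decide +kernel) bx20c17) (by decide +kernel) (xorG_node (N := 375344) bx20c18 (by decide +kernel) bx20c19)) (by decide +kernel) (xorG_node (N := 412064) (xorG_node (N := 837184) bx20c20 (by decide +kernel) bx20c21) (by decide +kernel) (xorG_node (N := 167904) bx20c22 (by decide +kernel) bx20c23))) (by decide +kernel) (xorG_node (N := 2032376) (xorG_node (N := 1203504) (xorG_node (N := 1192880) bx20c24 (by decide +kernel) bx20c25) (by decide +kernel) (xorG_node (N := 159360) bx20c26 (by decide +kernel) bx20c27)) (by decide +kernel) (xorG_node (N := 884680) (xorG_node (N := 2036264) bx20c28 (by decide +kernel) bx20c29) (by decide +kernel)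 (xorG_node (N := 1469920) bx20c30 (by decide +kernel) bx20c31))))) (by decide +kernel) (xorG_node (N := 367992) (xorG_node (N := 414632) (xorG_node (N := 1618192) (xorG_node (N := 1608264) (xorG_node (N := 1856680) bx20c32 (by decide +kernel) bx20c33) (by decide +kernel) (xorG_node (N := 843488) bx20c34 (by decide +kernel) bx20c35)) (by decide +kernel) (xorG_node (N := 47960) (xorG_node (N := 2017160) bx20c36 (by decide +kernel) bx20c37) (by decide +kernel) (xorG_node (N := 2030800) bx20c38 (by decide +kernel) bx20c39))) (by decide +kernel) (xorG_node (N := 2023608) (xorG_node (N := 1974040) (xorG_node (N := 1408416) bx20c40 (by decide +kernel) bx20c41) (by decide +kernel) (xorG_node (N := 221880) bx20c42 (by decide +kernel) bx20c43)) (by decide +kernel) (xorG_node (N := 130976) (xorG_node (N := 602864) bx20c44 (by decide +kernel) bx20c45) (by decide +kernel) (xorG_node (N := 838992) bx20c46 (by decide +kernel) bx20c47)))) (by decide +kernel) (xorG_node (N := 511696) (xorG_node (N := 580432) (xorG_node (N := 1826432) (xorG_node (N := 1259552) bx20c48 (by decide +kernel) bx20c49) (by decide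 +kernel) (xorG_node (N := 845472) bx20c50 (by decide +kernel) bx20c51)) (by decide +kernel) (xorG_node (N := 1770960) (xorG_node (N := 966384) bx20c52 (by decide +kernel) bx20c53) (by decide +kernel) (xorG_node (N := 1440544) bx20c54 (by decide +kernel) bx20c55))) (by decide +kernel) (xorG_node (N := 1021312) (xorG_node (N := 1283376) (xorG_node (N := 824688) bx20c56 (by decide +kernel) bx20c57) (by decide +kernel) (xorG_node (N := 2032704) bx20c58 (by decide +kernel) bx20c59)) (by decide +kernel) (xorG_node (N := 1851568) (xorG_node (N := 243728) bx20c60 (by decide +kernel) bx20c61) (by decide +kernel) (xorG_node (N := 1964192) bx20c62 (by decide +kernel) bx20c63)))))) (by decide +kernel) (xorG_node (N := 1918064) (xorG_node (N := 1814600) (xorG_node (N := 614512) (xorG_node (N := 1491520) (xorG_node (N := 380128) (xorG_node (N := 1909472) bx20c64 (by decide +kernel) bx20c65) (by decide +kernel) (xorG_node (N := 1633280) bx20c66 (by decide +kernel) bx20c67)) (by decide +kernel) (xorG_node (N := 200352) (xorG_node (N := 813824) bx20c68 (by decide +kernel) bx20c69) (by decide +kernel)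 (xorG_node (N := 484768) bx20c70 (by decide +kernel) bx20c71))) (by decide +kernel) (xorG_node (N := 1548848) (xorG_node (N := 984608) (xorG_node (N := 807328) bx20c72 (by decide +kernel) bx20c73) (by decide +kernel) (xorG_node (N := 153472) bx20c74 (by decide +kernel) bx20c75)) (by decide +kernel) (xorG_node (N := 1631248) (xorG_node (N := 975920) bx20c76 (by decide +kernel) bx20c77) (by decide +kernel) (xorG_node (N := 1179680) bx20c78 (by decide +kernel) bx20c79)))) (by decide +kernel) (xorG_node (N := 1232920) (xorG_node (N := 1279928) (xorG_node (N := 343840) (xorG_node (N := 821024) bx20c80 (by decide +kernel) bx20c81) (by decide +kernel) (xorG_node (N := 628736) bx20c82 (by decide +kernel) bx20c83)) (by decide +kernel) (xorG_node (N := 1489560) (xorG_node (N := 1880712) bx20c84 (by decide +kernel) bx20c85) (by decide +kernel) (xorG_node (N := 526352) bx20c86 (by decide +kernel) bx20c87))) (by decide +kernel) (xorG_node (N := 350112) (xorG_node (N := 1248936) (xorG_node (N := 1292832) bx20c88 (by decide +kernel) bx20c89) (by decide +kernel) (xorG_node (N := 45192) bx20c90 (by decide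 +kernel) bx20c91)) (by decide +kernel) (xorG_node (N := 1462536) (xorG_node (N := 23048) bx20c92 (by decide +kernel) bx20c93) (by decide +kernel) (xorG_node (N := 1313536) bx20c94 (by decide +kernel) bx20c95))))) (by decide +kernel) (xorG_node (N := 456248) (xorG_node (N := 689648) (xorG_node (N := 1249536) (xorG_node (N := 1999936) (xorG_node (N := 701056) bx20c96 (by decide +kernel) bx20c97) (by decide +kernel) (xorG_node (N := 1455808) bx20c98 (by decide +kernel) bx20c99)) (by decide +kernel) (xorG_node (N := 824640) (xorG_node (N := 1013680) bx20c100 (by decide +kernel) bx20c101) (by decide +kernel) (xorG_node (N := 189168) bx20c102 (by decide +kernel) bx20c103))) (by decide +kernel) (xorG_node (N := 627952) (xorG_node (N := 694736) (xorG_node (N := 818544) bx20c104 (by decide +kernel) bx20c105) (by decide +kernel) (xorG_node (N := 451712) bx20c106 (by decide +kernel) bx20c107)) (by decide +kernel) (xorG_node (N := 232736) (xorG_node (N := 560384) bx20c108 (by decide +kernel) bx20c109) (by decide +kernel) (xorG_node (N := 983072) bx20c110 (by decide +kernel) bx20c111)))) (by decide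 +kernel) (xorG_node (N := 291784) (xorG_node (N := 1184872) (xorG_node (N := 1648776) (xorG_node (N := 238464) bx20c112 (by decide +kernel) bx20c113) (by decide +kernel) (xorG_node (N := 1608456) bx20c114 (by decide +kernel) bx20c115)) (by decide +kernel) (xorG_node (N := 752864) (xorG_node (N := 500080) bx20c116 (by decide +kernel) bx20c117) (by decide +kernel) (xorG_node (N := 318864) bx20c118 (by decide +kernel) bx20c119))) (by decide +kernel) (xorG_node (N := 419744) (xorG_node (N := 137760) (xorG_node (N := 1628288) bx20c120 (by decide +kernel) bx20c121) (by decide +kernel) (xorG_node (N := 2015904) bx20c122 (by decide +kernel) bx20c123)) (by decide +kernel) (xorG_node (N := 359808) (xorG_node (N := 309408) bx20c124 (by decide +kernel) bx20c125) (by decide +kernel) (xorG_node (N := 50464) bx20c126 (by decide +kernel) bx20c127)))))))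

end Cfsg.Agent.Lib.Compute.SB
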