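import Cfsg.Agent.Lib.Compute.SB.InvData
import Cfsg.Agent.Lib.Compute.SB.Chunk

/-!
# The parities of the types for a column of `M24` over all the involutions
-/

set_option autoImplicit false
set_option Elab.async false
set_option maxRecDepth 100000

namespace Cfsg.Agent.Lib.Compute.SB

open PTree

/-- The element for the column. -/
def y24x3 : ℕ := nat_lit 976531636853126291160407323722221600

theorem bx3c0 : xorG (colF tauF y24x3) iv0 0 = 131620 := by decide +kernel
theorem bx3c1 : xorG (colF tauF y24x3) iv1 0 = 139296 := by decide +kernel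
theorem bx3c2 : xorG (colF tauF y24x3) iv2 0 = 12326 := by decide +kernel
theorem bx3c3 : xorG (colF tauF y24x3) iv3 0 = 135170 := by decide +kernel
theorem bx3c4 : xorG (colF tauF y24x3) iv4 0 = 131140 := by decide +kernel
theorem bx3c5 : xorG (colF tauF y24x3) iv5 0 = 135746 := by decide +kernel
theorem bx3c6 : xorG (colF tauF y24x3) iv6 0 = 139328 := by decide +kernel
theorem bx3c7 : xorG (colF tauF y24x3) iv7 0 = 164454 := by decide +kernel
theorem bx3c8 : xorG (colF tauF y24x3) iv8 0 = 143394 := by decide +kernel
theorem bx3c9 : xorG (colF tauF y24x3) iv9 0 = 546 := by decide +kernel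
theorem bx3c10 : xorG (colF tauF y24x3) iv10 0 = 172576 := by decide +kernel
theorem bx3c11 : xorG (colF tauF y24x3) iv11 0 = 100 := by decide +kernel
theorem bx3c12 : xorG (colF tauF y24x3) iv12 0 = 131140 := by decide +kernel
theorem bx3c13 : xorG (colF tauF y24x3) iv13 0 = 40964 := by decide +kernel
theorem bx3c14 : xorG (colF tauF y24x3) iv14 0 = 172098 := by decide +kernel
theorem bx3c15 : xorG (colF tauF y24x3) iv15 0 = 8288 := by decide +kernel
theorem bx3c16 : xorG (colF tauF y24x3) iv16 0 = 135686 := by decide +kernel
theorem bx3c17 : xorG (colF tauF y24x3) iv17 0 = 45600 := by decide +kernel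
theorem bx3c18 : xorG (colF tauF y24x3) iv18 0 = 131616 := by decide +kernel
theorem bx3c19 : xorG (colF tauF y24x3) iv19 0 = 131616 := by decide +kernel
theorem bx3c20 : xorG (colF tauF y24x3) iv20 0 = 8736 := by decide +kernel
theorem bx3c21 : xorG (colF tauF y24x3) iv21 0 = 168004 := by decide +kernel
theorem bx3c22 : xorG (colF tauF y24x3) iv22 0 = 45668 := by decide +kernel
theorem bx3c23 : xorG (colF tauF y24x3) iv23 0 = 8708 := by decide +kernel
theorem bx3c24 : xorG (colF tauF y24x3) iv24 0 = 12800 := by decide +kernel
theorem bx3c25 : xorG (colF tauF y24x3) iv25 0 = 452842 := by decide +kernel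
theorem bx3c26 : xorG (colF tauF y24x3) iv26 0 = 701544 := by decide +kernel
theorem bx3c27 : xorG (colF tauF y24x3) iv27 0 = 1947296 := by decide +kernel
theorem bx3c28 : xorG (colF tauF y24x3) iv28 0 = 781536 := by decide +kernel
theorem bx3c29 : xorG (colF tauF y24x3) iv29 0 = 1200576 := by decide +kernel
theorem bx3c30 : xorG (colF tauF y24x3) iv30 0 = 1157928 := by decide +kernel
theorem bx3c31 : xorG (colF tauF y24x3) iv31 0 = 1556808 := by decide +kernel
theorem bx3c32 : xorG (colF tauF y24x3) iv32 0 = 1610144 := by decide +kernel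
theorem bx3c33 : xorG (colF tauF y24x3) iv33 0 = 1711688 := by decide +kernel
theorem bx3c34 : xorG (colF tauF y24x3) iv34 0 = 1617992 := by decide +kernel
theorem bx3c35 : xorG (colF tauF y24x3) iv35 0 = 1742048 := by decide +kernel
theorem bx3c36 : xorG (colF tauF y24x3) iv36 0 = 1486560 := by decide +kernel
theorem bx3c37 : xorG (colF tauF y24x3) iv37 0 = 8832 := by decide +kernel
theorem bx3c38 : xorG (colF tauF y24x3) iv38 0 = 1051176 := by decide +kernel
theorem bx3c39 : xorG (colF tauF y24x3) iv39 0 = 131688 := by decide +kernel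
theorem bx3c40 : xorG (colF tauF y24x3) iv40 0 = 881056 := by decide +kernel
theorem bx3c41 : xorG (colF tauF y24x3) iv41 0 = 552224 := by decide +kernel
theorem bx3c42 : xorG (colF tauF y24x3) iv42 0 = 1646240 := by decide +kernel
theorem bx3c43 : xorG (colF tauF y24x3) iv43 0 = 1959616 := by decide +kernel
theorem bx3c44 : xorG (colF tauF y24x3) iv44 0 = 366112 := by decide +kernel
theorem bx3c45 : xorG (colF tauF y24x3) iv45 0 = 2077544 := by decide +kernel
theorem bx3c46 : xorG (colF tauF y24x3) iv46 0 = 1994912 := by decide +kernel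
theorem bx3c47 : xorG (colF tauF y24x3) iv47 0 = 37984 := by decide +kernel
theorem bx3c48 : xorG (colF tauF y24x3) iv48 0 = 650112 := by decide +kernel
theorem bx3c49 : xorG (colF tauF y24x3) iv49 0 = 999336 := by decide +kernel
theorem bx3c50 : xorG (colF tauF y24x3) iv50 0 = 61888 := by decide +kernel
theorem bx3c51 : xorG (colF tauF y24x3) iv51 0 = 1450016 := by decide +kernel
theorem bx3c52 : xorG (colF tauF y24x3) iv52 0 = 1082016 := by decide +kernel
theorem bx3c53 : xorG (colF tauF y24x3) iv53 0 = 34464 := by decide +kernel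
theorem bx3c54 : xorG (colF tauF y24x3) iv54 0 = 1476768 := by decide +kernel
theorem bx3c55 : xorG (colF tauF y24x3) iv55 0 = 824864 := by decide +kernel
theorem bx3c56 : xorG (colF tauF y24x3) iv56 0 = 1313384 := by decide +kernel
theorem bx3c57 : xorG (colF tauF y24x3) iv57 0 = 279688 := by decide +kernel
theorem bx3c58 : xorG (colF tauF y24x3) iv58 0 = 214984 := by decide +kernel
theorem bx3c59 : xorG (colF tauF y24x3) iv59 0 = 1080616 := by decide +kernel
theorem bx3c60 : xorG (colF tauF y24x3) iv60 0 = 1834536 := by decide +kernel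
theorem bx3c61 : xorG (colF tauF y24x3) iv61 0 = 501792 := by decide +kernel
theorem bx3c62 : xorG (colF tauF y24x3) iv62 0 = 1158752 := by decide +kernel
theorem bx3c63 : xorG (colF tauF y24x3) iv63 0 = 1060064 := by decide +kernel
theorem bx3c64 : xorG (colF tauF y24x3) iv64 0 = 206432 := by decide +kernel
theorem bx3c65 : xorG (colF tauF y24x3) iv65 0 = 1379424 := by decide +kernel
theorem bx3c66 : xorG (colF tauF y24x3) iv66 0 = 496384 := by decide +kernel
theorem bx3c67 : xorG (colF tauF y24x3) iv67 0 = 89728 := by decide +kernel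
theorem bx3c68 : xorG (colF tauF y24x3) iv68 0 = 177792 := by decide +kernel
theorem bx3c69 : xorG (colF tauF y24x3) iv69 0 = 836232 := by decide +kernel
theorem bx3c70 : xorG (colF tauF y24x3) iv70 0 = 1749792 := by decide +kernel
theorem bx3c71 : xorG (colF tauF y24x3) iv71 0 = 691144 := by decide +kernel
theorem bx3c72 : xorG (colF tauF y24x3) iv72 0 = 1209928 := by decide +kernel
theorem bx3c73 : xorG (colF tauF y24x3) iv73 0 = 1930144 := by decide +kernel
theorem bx3c74 : xorG (colF tauF y24x3) iv74 0 = 1691008 := by decide +kernel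
theorem bx3c75 : xorG (colF tauF y24x3) iv75 0 = 1608352 := by decide +kernel
theorem bx3c76 : xorG (colF tauF y24x3) iv76 0 = 316096 := by decide +kernel
theorem bx3c77 : xorG (colF tauF y24x3) iv77 0 = 165600 := by decide +kernel
theorem bx3c78 : xorG (colF tauF y24x3) iv78 0 = 866336 := by decide +kernel
theorem bx3c79 : xorG (colF tauF y24x3) iv79 0 = 1524840 := by decide +kernel
theorem bx3c80 : xorG (colF tauF y24x3) iv80 0 = 1049824 := by decide +kernel
theorem bx3c81 : xorG (colF tauF y24x3) iv81 0 = 1139752 := by decide +kernel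
theorem bx3c82 : xorG (colF tauF y24x3) iv82 0 = 1882656 := by decide +kernel
theorem bx3c83 : xorG (colF tauF y24x3) iv83 0 = 676640 := by decide +kernel
theorem bx3c84 : xorG (colF tauF y24x3) iv84 0 = 1698696 := by decide +kernel
theorem bx3c85 : xorG (colF tauF y24x3) iv85 0 = 565632 := by decide +kernel
theorem bx3c86 : xorG (colF tauF y24x3) iv86 0 = 1528776 := by decide +kernel
theorem bx3c87 : xorG (colF tauF y24x3) iv87 0 = 234216 := by decide +kernel
theorem bx3c88 : xorG (colF tauF y24x3) iv88 0 = 1462752 := by decide +kernel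
theorem bx3c89 : xorG (colF tauF y24x3) iv89 0 = 513184 := by decide +kernel
theorem bx3c90 : xorG (colF tauF y24x3) iv90 0 = 159296 := by decide +kernel
theorem bx3c91 : xorG (colF tauF y24x3) iv91 0 = 231648 := by decide +kernel
theorem bx3c92 : xorG (colF tauF y24x3) iv92 0 = 238976 := by decide +kernel
theorem bx3c93 : xorG (colF tauF y24x3) iv93 0 = 1447008 := by decide +kernel
theorem bx3c94 : xorG (colF tauF y24x3) iv94 0 = 1512384 := by decide +kernel
theorem bx3c95 : xorG (colF tauF y24x3) iv95 0 = 540288 := by decide +kernel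
theorem bx3c96 : xorG (colF tauF y24x3) iv96 0 = 1649448 := by decide +kernel
theorem bx3c97 : xorG (colF tauF y24x3) iv97 0 = 416512 := by decide +kernel
theorem bx3c98 : xorG (colF tauF y24x3) iv98 0 = 525896 := by decide +kernel
theorem bx3c99 : xorG (colF tauF y24x3) iv99 0 = 1373896 := by decide +kernel
theorem bx3c100 : xorG (colF tauF y24x3) iv100 0 = 270984 := by decide +kernel
theorem bx3c101 : xorG (colF tauF y24x3) iv101 0 = 583680 := by decide +kernel
theorem bx3c102 : xorG (colF tauF y24x3) iv102 0 = 860224 := by decide +kernel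
theorem bx3c103 : xorG (colF tauF y24x3) iv103 0 = 1313992 := by decide +kernel
theorem bx3c104 : xorG (colF tauF y24x3) iv104 0 = 1165384 := by decide +kernel
theorem bx3c105 : xorG (colF tauF y24x3) iv105 0 = 629256 := by decide +kernel
theorem bx3c106 : xorG (colF tauF y24x3) iv106 0 = 950080 := by decide +kernel
theorem bx3c107 : xorG (colF tauF y24x3) iv107 0 = 533864 := by decide +kernel
theorem bx3c108 : xorG (colF tauF y24x3) iv108 0 = 1244064 := by decide +kernel
theorem bx3c109 : xorG (colF tauF y24x3) iv109 0 = 1931592 := by decide +kernel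
theorem bx3c110 : xorG (colF tauF y24x3) iv110 0 = 946112 := by decide +kernel
theorem bx3c111 : xorG (colF tauF y24x3) iv111 0 = 777544 := by decide +kernel
theorem bx3c112 : xorG (colF tauF y24x3) iv112 0 = 1579520 := by decide +kernel
theorem bx3c113 : xorG (colF tauF y24x3) iv113 0 = 1301024 := by decide +kernel
theorem bx3c114 : xorG (colF tauF y24x3) iv114 0 = 398632 := by decide +kernel
theorem bx3c115 : xorG (colF tauF y24x3) iv115 0 = 246944 := by decide +kernel
theorem bx3c116 : xorG (colF tauF y24x3) iv116 0 = 1777096 := by decide +kernel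
theorem bx3c117 : xorG (colF tauF y24x3) iv117 0 = 131072 := by decide +kernel
theorem bx3c118 : xorG (colF tauF y24x3) iv118 0 = 149768 := by decide +kernel
theorem bx3c119 : xorG (colF tauF y24x3) iv119 0 = 19242 := by decide +kernel
theorem bx3c120 : xorG (colF tauF y24x3) iv120 0 = 16672 := by decide +kernel
theorem bx3c121 : xorG (colF tauF y24x3) iv121 0 = 19232 := by decide +kernel
theorem bx3c122 : xorG (colF tauF y24x3) iv122 0 = 16898 := by decide +kernel
theorem bx3c123 : xorG (colF tauF y24x3) iv123 0 = 131330 := by decide +kernel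
theorem bx3c124 : xorG (colF tauF y24x3) iv124 0 = 21250 := by decide +kernel
theorem bx3c125 : xorG (colF tauF y24x3) iv125 0 = 133152 := by decide +kernel
theorem bx3c126 : xorG (colF tauF y24x3) iv126 0 = 264962 := by decide +kernel
theorem bx3c127 : xorG (colF tauF y24x3) iv127 0 = 4898 := by decide +kernel

theorem bits24x3 : xorG (colF tauF y24x3) invT 0 = 6 :=
  (xorG_node (N := 6) (xorG_node (N := 1353742) (xorG_node (N := 27974) (xorG_node (N := 8710) (xorG_node (N := 0) (xorG_node (N := 37408) (xorG_node (N := 12804) bx3c0 (by decide +kernel) bx3c1) (by decide +kernel) (xorG_node (N := 8228) bx3c2 (by decide +kernel) bx3c3)) (by decide +kernel) (xorG_node (N := 4640) (xorG_node (N := 4102) bx3c4 (by decide +kernel) bx3c5) (by decide +kernel) (xorG_node (N := 33318) bx3c6 (by decide +kernel) bx3c7))) (by decide +kernel) (xorG_node (N := 518) (xorG_node (N := 580) (xorG_node (N := 143360) bx3c8 (by decide +kernel) bx3c9) (by decide +kernel) (xorG_node (N := 139844) bx3c10 (by decide +kernel) bx3c11)) (by decide +kernel) (xorG_node (N := 8258) (xorG_node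 (N := 41024) bx3c12 (by decide +kernel) bx3c13) (by decide +kernel) (xorG_node (N := 163842) bx3c14 (by decide +kernel) bx3c15)))) (by decide +kernel) (xorG_node (N := 151360) (xorG_node (N := 131106) (xorG_node (N := 139302) (xorG_node (N := 139302) bx3c16 (by decide +kernel) bx3c17) (by decide +kernel) (xorG_node (N := 512) bx3c18 (by decide +kernel) bx3c19)) (by decide +kernel) (xorG_node (N := 8708) (xorG_node (N := 45668) bx3c20 (by decide +kernel) bx3c21) (by decide +kernel) (xorG_node (N := 32864) bx3c22 (by decide +kernel) bx3c23))) (by decide +kernel) (xorG_node (N := 19810) (xorG_node (N := 1693730) (xorG_node (N := 318186) bx3c24 (by decide +kernel) bx3c25) (by decide +kernel) (xorG_node (N := 2032328) bx3c26 (by decide +kernel) bx3c27)) (by decide +kernel) (xorG_node (N := 1807680) (xorG_node (N := 1948960) bx3c28 (by decide +kernel) bx3c29) (by decide +kernel) (xorG_node (N := 404064) bx3c30 (by decide +kernel) bx3c31))))) (by decide +kernel) (xorG_node (N := 1369416) (xorG_node (N := 84488) (xorG_node (N := 1199968) (xorG_node (N := 1100608) (xorG_node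 (N := 184296) bx3c32 (by decide +kernel) bx3c33) (by decide +kernel) (xorG_node (N := 132264) bx3c34 (by decide +kernel) bx3c35)) (by decide +kernel) (xorG_node (N := 132128) (xorG_node (N := 1444960) bx3c36 (by decide +kernel) bx3c37) (by decide +kernel) (xorG_node (N := 1050688) bx3c38 (by decide +kernel) bx3c39))) (by decide +kernel) (xorG_node (N := 1254760) (xorG_node (N := 124640) (xorG_node (N := 72832) bx3c40 (by decide +kernel) bx3c41) (by decide +kernel) (xorG_node (N := 326240) bx3c42 (by decide +kernel) bx3c43)) (by decide +kernel) (xorG_node (N := 1098632) (xorG_node (N := 664904) bx3c44 (by decide +kernel) bx3c45) (by decide +kernel) (xorG_node (N := 2025152) bx3c46 (by decide +kernel) bx3c47)))) (by decide +kernel) (xorG_node (N := 1355584) (xorG_node (N := 1785160) (xorG_node (N := 1189832) (xorG_node (N := 455720) bx3c48 (by decide +kernel) bx3c49) (by decide +kernel) (xorG_node (N := 1364448) bx3c50 (by decide +kernel) bx3c51)) (by decide +kernel) (xorG_node (N := 604800) (xorG_node (N := 1180672) bx3c52 (by decide +kernel) bx3c53) (by decide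 +kernel) (xorG_node (N := 1719936) bx3c54 (by decide +kernel) bx3c55))) (by decide +kernel) (xorG_node (N := 954888) (xorG_node (N := 218752) (xorG_node (N := 1076960) bx3c56 (by decide +kernel) bx3c57) (by decide +kernel) (xorG_node (N := 1259744) bx3c58 (by decide +kernel) bx3c59)) (by decide +kernel) (xorG_node (N := 906376) (xorG_node (N := 1988104) bx3c60 (by decide +kernel) bx3c61) (by decide +kernel) (xorG_node (N := 1147520) bx3c62 (by decide +kernel) bx3c63)))))) (by decide +kernel) (xorG_node (N := 1484808) (xorG_node (N := 2064992) (xorG_node (N := 163520) (xorG_node (N := 1583712) (xorG_node (N := 288640) (xorG_node (N := 1485312) bx3c64 (by decide +kernel) bx3c65) (by decide +kernel) (xorG_node (N := 183680) bx3c66 (by decide +kernel) bx3c67)) (by decide +kernel) (xorG_node (N := 1853920) (xorG_node (N := 816136) bx3c68 (by decide +kernel) bx3c69) (by decide +kernel) (xorG_node (N := 1063400) bx3c70 (by decide +kernel) bx3c71))) (by decide +kernel) (xorG_node (N := 1201312) (xorG_node (N := 411848) (xorG_node (N := 460264) bx3c72 (by decide +kernel)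 bx3c73) (by decide +kernel) (xorG_node (N := 83232) bx3c74 (by decide +kernel) bx3c75)) (by decide +kernel) (xorG_node (N := 1313896) (xorG_node (N := 422944) bx3c76 (by decide +kernel) bx3c77) (by decide +kernel) (xorG_node (N := 1211464) bx3c78 (by decide +kernel) bx3c79)))) (by decide +kernel) (xorG_node (N := 1965728) (xorG_node (N := 17632) (xorG_node (N := 1410504) (xorG_node (N := 92360) bx3c80 (by decide +kernel) bx3c81) (by decide +kernel) (xorG_node (N := 1370368) bx3c82 (by decide +kernel) bx3c83)) (by decide +kernel) (xorG_node (N := 377128) (xorG_node (N := 1131016) bx3c84 (by decide +kernel) bx3c85) (by decide +kernel) (xorG_node (N := 1360672) bx3c86 (by decide +kernel) bx3c87))) (by decide +kernel) (xorG_node (N := 2079296) (xorG_node (N := 1327840) (xorG_node (N := 1147968) bx3c88 (by decide +kernel) bx3c89) (by decide +kernel) (xorG_node (N := 116384) bx3c90 (by decide +kernel) bx3c91)) (by decide +kernel) (xorG_node (N := 776352) (xorG_node (N := 1356256) bx3c92 (by decide +kernel) bx3c93) (by decide +kernel) (xorG_node (N := 2059584) bx3c94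 (by decide +kernel) bx3c95))))) (by decide +kernel) (xorG_node (N := 76392) (xorG_node (N := 396320) (xorG_node (N := 1636008) (xorG_node (N := 463016) (xorG_node (N := 1798184) bx3c96 (by decide +kernel) bx3c97) (by decide +kernel) (xorG_node (N := 1863808) bx3c98 (by decide +kernel) bx3c99)) (by decide +kernel) (xorG_node (N := 2057728) (xorG_node (N := 969352) bx3c100 (by decide +kernel) bx3c101) (by decide +kernel) (xorG_node (N := 1682568) bx3c102 (by decide +kernel) bx3c103))) (by decide +kernel) (xorG_node (N := 2026120) (xorG_node (N := 1464424) (xorG_node (N := 1589824) bx3c104 (by decide +kernel) bx3c105) (by decide +kernel) (xorG_node (N := 940584) bx3c106 (by decide +kernel) bx3c107)) (by decide +kernel) (xorG_node (N := 569952) (xorG_node (N := 885480) bx3c108 (by decide +kernel) bx3c109) (by decide +kernel) (xorG_node (N := 340616) bx3c110 (by decide +kernel) bx3c111)))) (by decide +kernel) (xorG_node (N := 337480) (xorG_node (N := 339818) (xorG_node (N := 930216) (xorG_node (N := 778272) bx3c112 (by decide +kernel) bx3c113) (by decide +kernel)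 (xorG_node (N := 512392) bx3c114 (by decide +kernel) bx3c115)) (by decide +kernel) (xorG_node (N := 1777346) (xorG_node (N := 1646016) bx3c116 (by decide +kernel) bx3c117) (by decide +kernel) (xorG_node (N := 131874) bx3c118 (by decide +kernel) bx3c119))) (by decide +kernel) (xorG_node (N := 2306) (xorG_node (N := 150272) (xorG_node (N := 2592) bx3c120 (by decide +kernel) bx3c121) (by decide +kernel) (xorG_node (N := 147712) bx3c122 (by decide +kernel) bx3c123)) (by decide +kernel) (xorG_node (N := 148226) (xorG_node (N := 152354) bx3c124 (by decide +kernel) bx3c125) (by decide +kernel) (xorG_node (N := 266272) bx3c126 (by decide +kernel) bx3c127)))))))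

end Cfsg.Agent.Lib.Compute.SB
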