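import Cfsg.Agent.Lib.Compute.SB.InvData
import Cfsg.Agent.Lib.Compute.SB.Chunk

/-!
# The parities of the types for a column of `M24` over all the involutions
-/

set_option autoImplicit false
set_option Elab.async false
set_option maxRecDepth 100000

namespace Cfsg.Agent.Lib.Compute.SB

open PTree

/-- The element for the column. -/
def y24x4 : ℕ := nat_lit 56569471824258327354106516593512471

theorem bx4c0 : xorG (colF tauF y24x4) iv0 0 = 23328 := by decide +kernel
theorem bx4c1 : xorG (colF tauF y24x4) iv1 0 = 409888 := by decide +kernel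
theorem bx4c2 : xorG (colF tauF y24x4) iv2 0 = 1311232 := by decide +kernel
theorem bx4c3 : xorG (colF tauF y24x4) iv3 0 = 1460768 := by decide +kernel
theorem bx4c4 : xorG (colF tauF y24x4) iv4 0 = 18688 := by decide +kernel
theorem bx4c5 : xorG (colF tauF y24x4) iv5 0 = 269090 := by decide +kernel
theorem bx4c6 : xorG (colF tauF y24x4) iv6 0 = 1465090 := by decide +kernel
theorem bx4c7 : xorG (colF tauF y24x4) iv7 0 = 1444352 := by decide +kernel
theorem bx4c8 : xorG (colF tauF y24x4) iv8 0 = 1313312 := by decide +kernel
theorem bx4c9 : xorG (colF tauF y24x4) iv9 0 = 137760 := by decide +kernel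
theorem bx4c10 : xorG (colF tauF y24x4) iv10 0 = 1663296 := by decide +kernel
theorem bx4c11 : xorG (colF tauF y24x4) iv11 0 = 1300292 := by decide +kernel
theorem bx4c12 : xorG (colF tauF y24x4) iv12 0 = 1963364 := by decide +kernel
theorem bx4c13 : xorG (colF tauF y24x4) iv13 0 = 1957136 := by decide +kernel
theorem bx4c14 : xorG (colF tauF y24x4) iv14 0 = 1329684 := by decide +kernel
theorem bx4c15 : xorG (colF tauF y24x4) iv15 0 = 1836736 := by decide +kernel
theorem bx4c16 : xorG (colF tauF y24x4) iv16 0 = 1839796 := by decide +kernel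
theorem bx4c17 : xorG (colF tauF y24x4) iv17 0 = 1788688 := by decide +kernel
theorem bx4c18 : xorG (colF tauF y24x4) iv18 0 = 1230352 := by decide +kernel
theorem bx4c19 : xorG (colF tauF y24x4) iv19 0 = 1547152 := by decide +kernel
theorem bx4c20 : xorG (colF tauF y24x4) iv20 0 = 1988320 := by decide +kernel
theorem bx4c21 : xorG (colF tauF y24x4) iv21 0 = 1702276 := by decide +kernel
theorem bx4c22 : xorG (colF tauF y24x4) iv22 0 = 795168 := by decide +kernel
theorem bx4c23 : xorG (colF tauF y24x4) iv23 0 = 84484 := by decide +kernel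
theorem bx4c24 : xorG (colF tauF y24x4) iv24 0 = 1840148 := by decide +kernel
theorem bx4c25 : xorG (colF tauF y24x4) iv25 0 = 1566228 := by decide +kernel
theorem bx4c26 : xorG (colF tauF y24x4) iv26 0 = 1049824 := by decide +kernel
theorem bx4c27 : xorG (colF tauF y24x4) iv27 0 = 167584 := by decide +kernel
theorem bx4c28 : xorG (colF tauF y24x4) iv28 0 = 386640 := by decide +kernel
theorem bx4c29 : xorG (colF tauF y24x4) iv29 0 = 640848 := by decide +kernel
theorem bx4c30 : xorG (colF tauF y24x4) iv30 0 = 1636432 := by decide +kernel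
theorem bx4c31 : xorG (colF tauF y24x4) iv31 0 = 466948 := by decide +kernel
theorem bx4c32 : xorG (colF tauF y24x4) iv32 0 = 1213732 := by decide +kernel
theorem bx4c33 : xorG (colF tauF y24x4) iv33 0 = 316548 := by decide +kernel
theorem bx4c34 : xorG (colF tauF y24x4) iv34 0 = 1487152 := by decide +kernel
theorem bx4c35 : xorG (colF tauF y24x4) iv35 0 = 384452 := by decide +kernel
theorem bx4c36 : xorG (colF tauF y24x4) iv36 0 = 1249044 := by decide +kernel
theorem bx4c37 : xorG (colF tauF y24x4) iv37 0 = 61104 := by decide +kernel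
theorem bx4c38 : xorG (colF tauF y24x4) iv38 0 = 1518640 := by decide +kernel
theorem bx4c39 : xorG (colF tauF y24x4) iv39 0 = 930772 := by decide +kernel
theorem bx4c40 : xorG (colF tauF y24x4) iv40 0 = 540928 := by decide +kernel
theorem bx4c41 : xorG (colF tauF y24x4) iv41 0 = 1725888 := by decide +kernel
theorem bx4c42 : xorG (colF tauF y24x4) iv42 0 = 142660 := by decide +kernel
theorem bx4c43 : xorG (colF tauF y24x4) iv43 0 = 312596 := by decide +kernel
theorem bx4c44 : xorG (colF tauF y24x4) iv44 0 = 2032020 := by decide +kernel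
theorem bx4c45 : xorG (colF tauF y24x4) iv45 0 = 261152 := by decide +kernel
theorem bx4c46 : xorG (colF tauF y24x4) iv46 0 = 469780 := by decide +kernel
theorem bx4c47 : xorG (colF tauF y24x4) iv47 0 = 264304 := by decide +kernel
theorem bx4c48 : xorG (colF tauF y24x4) iv48 0 = 1716564 := by decide +kernel
theorem bx4c49 : xorG (colF tauF y24x4) iv49 0 = 842660 := by decide +kernel
theorem bx4c50 : xorG (colF tauF y24x4) iv50 0 = 170016 := by decide +kernel
theorem bx4c51 : xorG (colF tauF y24x4) iv51 0 = 2082324 := by decide +kernel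
theorem bx4c52 : xorG (colF tauF y24x4) iv52 0 = 1215296 := by decide +kernel
theorem bx4c53 : xorG (colF tauF y24x4) iv53 0 = 62884 := by decide +kernel
theorem bx4c54 : xorG (colF tauF y24x4) iv54 0 = 1338784 := by decide +kernel
theorem bx4c55 : xorG (colF tauF y24x4) iv55 0 = 83252 := by decide +kernel
theorem bx4c56 : xorG (colF tauF y24x4) iv56 0 = 1659140 := by decide +kernel
theorem bx4c57 : xorG (colF tauF y24x4) iv57 0 = 418192 := by decide +kernel
theorem bx4c58 : xorG (colF tauF y24x4) iv58 0 = 2085040 := by decide +kernel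
theorem bx4c59 : xorG (colF tauF y24x4) iv59 0 = 649632 := by decide +kernel
theorem bx4c60 : xorG (colF tauF y24x4) iv60 0 = 879536 := by decide +kernel
theorem bx4c61 : xorG (colF tauF y24x4) iv61 0 = 1158320 := by decide +kernel
theorem bx4c62 : xorG (colF tauF y24x4) iv62 0 = 414228 := by decide +kernel
theorem bx4c63 : xorG (colF tauF y24x4) iv63 0 = 383008 := by decide +kernel
theorem bx4c64 : xorG (colF tauF y24x4) iv64 0 = 872832 := by decide +kernel
theorem bx4c65 : xorG (colF tauF y24x4) iv65 0 = 1995136 := by decide +kernel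
theorem bx4c66 : xorG (colF tauF y24x4) iv66 0 = 1412496 := by decide +kernel
theorem bx4c67 : xorG (colF tauF y24x4) iv67 0 = 1549300 := by decide +kernel
theorem bx4c68 : xorG (colF tauF y24x4) iv68 0 = 620128 := by decide +kernel
theorem bx4c69 : xorG (colF tauF y24x4) iv69 0 = 187520 := by decide +kernel
theorem bx4c70 : xorG (colF tauF y24x4) iv70 0 = 627360 := by decide +kernel
theorem bx4c71 : xorG (colF tauF y24x4) iv71 0 = 1157716 := by decide +kernel
theorem bx4c72 : xorG (colF tauF y24x4) iv72 0 = 1747504 := by decide +kernel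
theorem bx4c73 : xorG (colF tauF y24x4) iv73 0 = 1194144 := by decide +kernel
theorem bx4c74 : xorG (colF tauF y24x4) iv74 0 = 678576 := by decide +kernel
theorem bx4c75 : xorG (colF tauF y24x4) iv75 0 = 1692960 := by decide +kernel
theorem bx4c76 : xorG (colF tauF y24x4) iv76 0 = 2008064 := by decide +kernel
theorem bx4c77 : xorG (colF tauF y24x4) iv77 0 = 1197088 := by decide +kernel
theorem bx4c78 : xorG (colF tauF y24x4) iv78 0 = 831844 := by decide +kernel
theorem bx4c79 : xorG (colF tauF y24x4) iv79 0 = 1733632 := by decide +kernel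
theorem bx4c80 : xorG (colF tauF y24x4) iv80 0 = 173088 := by decide +kernel
theorem bx4c81 : xorG (colF tauF y24x4) iv81 0 = 955376 := by decide +kernel
theorem bx4c82 : xorG (colF tauF y24x4) iv82 0 = 1452416 := by decide +kernel
theorem bx4c83 : xorG (colF tauF y24x4) iv83 0 = 1598752 := by decide +kernel
theorem bx4c84 : xorG (colF tauF y24x4) iv84 0 = 839348 := by decide +kernel
theorem bx4c85 : xorG (colF tauF y24x4) iv85 0 = 1877392 := by decide +kernel
theorem bx4c86 : xorG (colF tauF y24x4) iv86 0 = 1258240 := by decide +kernel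
theorem bx4c87 : xorG (colF tauF y24x4) iv87 0 = 859808 := by decide +kernel
theorem bx4c88 : xorG (colF tauF y24x4) iv88 0 = 1284768 := by decide +kernel
theorem bx4c89 : xorG (colF tauF y24x4) iv89 0 = 1682836 := by decide +kernel
theorem bx4c90 : xorG (colF tauF y24x4) iv90 0 = 773072 := by decide +kernel
theorem bx4c91 : xorG (colF tauF y24x4) iv91 0 = 940000 := by decide +kernel
theorem bx4c92 : xorG (colF tauF y24x4) iv92 0 = 1761444 := by decide +kernel
theorem bx4c93 : xorG (colF tauF y24x4) iv93 0 = 442420 := by decide +kernel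
theorem bx4c94 : xorG (colF tauF y24x4) iv94 0 = 563588 := by decide +kernel
theorem bx4c95 : xorG (colF tauF y24x4) iv95 0 = 1505696 := by decide +kernel
theorem bx4c96 : xorG (colF tauF y24x4) iv96 0 = 1788656 := by decide +kernel
theorem bx4c97 : xorG (colF tauF y24x4) iv97 0 = 1525428 := by decide +kernel
theorem bx4c98 : xorG (colF tauF y24x4) iv98 0 = 1533216 := by decide +kernel
theorem bx4c99 : xorG (colF tauF y24x4) iv99 0 = 891268 := by decide +kernel
theorem bx4c100 : xorG (colF tauF y24x4) iv100 0 = 602336 := by decide +kernel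
theorem bx4c101 : xorG (colF tauF y24x4) iv101 0 = 27028 := by decide +kernel
theorem bx4c102 : xorG (colF tauF y24x4) iv102 0 = 1484672 := by decide +kernel
theorem bx4c103 : xorG (colF tauF y24x4) iv103 0 = 1523844 := by decide +kernel
theorem bx4c104 : xorG (colF tauF y24x4) iv104 0 = 776880 := by decide +kernel
theorem bx4c105 : xorG (colF tauF y24x4) iv105 0 = 1415172 := by decide +kernel
theorem bx4c106 : xorG (colF tauF y24x4) iv106 0 = 1265268 := by decide +kernel
theorem bx4c107 : xorG (colF tauF y24x4) iv107 0 = 395140 := by decide +kernel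
theorem bx4c108 : xorG (colF tauF y24x4) iv108 0 = 1674292 := by decide +kernel
theorem bx4c109 : xorG (colF tauF y24x4) iv109 0 = 2022468 := by decide +kernel
theorem bx4c110 : xorG (colF tauF y24x4) iv110 0 = 418672 := by decide +kernel
theorem bx4c111 : xorG (colF tauF y24x4) iv111 0 = 1127712 := by decide +kernel
theorem bx4c112 : xorG (colF tauF y24x4) iv112 0 = 1840532 := by decide +kernel
theorem bx4c113 : xorG (colF tauF y24x4) iv113 0 = 1135904 := by decide +kernel
theorem bx4c114 : xorG (colF tauF y24x4) iv114 0 = 831680 := by decide +kernel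
theorem bx4c115 : xorG (colF tauF y24x4) iv115 0 = 2019296 := by decide +kernel
theorem bx4c116 : xorG (colF tauF y24x4) iv116 0 = 962624 := by decide +kernel
theorem bx4c117 : xorG (colF tauF y24x4) iv117 0 = 460368 := by decide +kernel
theorem bx4c118 : xorG (colF tauF y24x4) iv118 0 = 524816 := by decide +kernel
theorem bx4c119 : xorG (colF tauF y24x4) iv119 0 = 243520 := by decide +kernel
theorem bx4c120 : xorG (colF tauF y24x4) iv120 0 = 196882 := by decide +kernel
theorem bx4c121 : xorG (colF tauF y24x4) iv121 0 = 1120016 := by decide +kernel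
theorem bx4c122 : xorG (colF tauF y24x4) iv122 0 = 234304 := by decide +kernel
theorem bx4c123 : xorG (colF tauF y24x4) iv123 0 = 46144 := by decide +kernel
theorem bx4c124 : xorG (colF tauF y24x4) iv124 0 = 713472 := by decide +kernel
theorem bx4c125 : xorG (colF tauF y24x4) iv125 0 = 193040 := by decide +kernel
theorem bx4c126 : xorG (colF tauF y24x4) iv126 0 = 808464 := by decide +kernel
theorem bx4c127 : xorG (colF tauF y24x4) iv127 0 = 1176848 := by decide +kernel

theorem bits24x4 : xorG (colF tauF y24x4) invT 0 = 6 :=
  (xorG_node (N := 6) (xorG_node (N := 1384516) (xorG_node (N := 1106132) (xorG_node (N := 1655460) (xorG_node (N := 0) (xorG_node (N := 416544) (xorG_node (N := 400128) bx4c0 (by decide +kernel) bx4c1) (by decide +kernel) (xorG_node (N := 18464) bx4c2 (by decide +kernel) bx4c3)) (by decide +kernel) (xorG_node (N := 285472) (xorG_node (N := 279074) bx4c4 (by decide +kernel) bx4c5) (by decide +kernel) (xorG_node (N := 4354) bx4c6 (by decide +kernel) bx4c7))) (by decide +kernel) (xorG_node (N := 1639076) (xorG_node (N := 1844740) (xorG_node (N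 := 1462272) bx4c8 (by decide +kernel) bx4c9) (by decide +kernel) (xorG_node (N := 669188) bx4c10 (by decide +kernel) bx4c11)) (by decide +kernel) (xorG_node (N := 74912) (xorG_node (N := 75892) bx4c12 (by decide +kernel) bx4c13) (by decide +kernel) (xorG_node (N := 19668) bx4c14 (by decide +kernel) bx4c15)))) (by decide +kernel) (xorG_node (N := 762480) (xorG_node (N := 607204) (xorG_node (N := 230564) (xorG_node (N := 481572) bx4c16 (by decide +kernel) bx4c17) (by decide +kernel) (xorG_node (N := 384384) bx4c18 (by decide +kernel) bx4c19)) (by decide +kernel) (xorG_node (N := 771904) (xorG_node (N := 438116) bx4c20 (by decide +kernel) bx4c21) (by decide +kernel) (xorG_node (N := 354340) bx4c22 (by decide +kernel) bx4c23))) (by decide +kernel) (xorG_node (N := 172436) (xorG_node (N := 1669312) (xorG_node (N := 750080) bx4c24 (by decide +kernel) bx4c25) (by decide +kernel) (xorG_node (N := 1215168) bx4c26 (by decide +kernel) bx4c27)) (by decide +kernel) (xorG_node (N := 1808724) (xorG_node (N := 786688) bx4c28 (by decide +kernel) bx4c29) (by decide +kernel) (xorG_node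 (N := 1562708) bx4c30 (by decide +kernel) bx4c31))))) (by decide +kernel) (xorG_node (N := 344208) (xorG_node (N := 1683028) (xorG_node (N := 721412) (xorG_node (N := 392516) (xorG_node (N := 1446304) bx4c32 (by decide +kernel) bx4c33) (by decide +kernel) (xorG_node (N := 1273060) bx4c34 (by decide +kernel) bx4c35)) (by decide +kernel) (xorG_node (N := 982592) (xorG_node (N := 1286564) bx4c36 (by decide +kernel) bx4c37) (by decide +kernel) (xorG_node (N := 1662948) bx4c38 (by decide +kernel) bx4c39))) (by decide +kernel) (xorG_node (N := 175184) (xorG_node (N := 1899152) (xorG_node (N := 1709248) bx4c40 (by decide +kernel) bx4c41) (by decide +kernel) (xorG_node (N := 453200) bx4c42 (by decide +kernel) bx4c43)) (by decide +kernel) (xorG_node (N := 1988304) (xorG_node (N := 1867188) bx4c44 (by decide +kernel) bx4c45) (by decide +kernel) (xorG_node (N := 207716) bx4c46 (by decide +kernel) bx4c47)))) (by decide +kernel) (xorG_node (N := 1879748) (xorG_node (N := 764596) (xorG_node (N := 900292) (xorG_node (N := 1239792) bx4c48 (by decide +kernel) bx4c49) (by decide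 +kernel) (xorG_node (N := 1922612) bx4c50 (by decide +kernel) bx4c51)) (by decide +kernel) (xorG_node (N := 1447536) (xorG_node (N := 1195748) bx4c52 (by decide +kernel) bx4c53) (by decide +kernel) (xorG_node (N := 338068) bx4c54 (by decide +kernel) bx4c55))) (by decide +kernel) (xorG_node (N := 1442928) (xorG_node (N := 542980) (xorG_node (N := 2060436) bx4c56 (by decide +kernel) bx4c57) (by decide +kernel) (xorG_node (N := 1521936) bx4c58 (by decide +kernel) bx4c59)) (by decide +kernel) (xorG_node (N := 1723764) (xorG_node (N := 1886016) bx4c60 (by decide +kernel) bx4c61) (by decide +kernel) (xorG_node (N := 166452) bx4c62 (by decide +kernel) bx4c63)))))) (by decide +kernel) (xorG_node (N := 1515586) (xorG_node (N := 1064560) (xorG_node (N := 521268) (xorG_node (N := 310384) (xorG_node (N := 1125988) (xorG_node (N := 1515520) bx4c64 (by decide +kernel) bx4c65) (by decide +kernel) (xorG_node (N := 134756) bx4c66 (by decide +kernel) bx4c67)) (by decide +kernel) (xorG_node (N := 1430036) (xorG_node (N := 781024) bx4c68 (by decide +kernel) bx4c69) (by decide +kernel)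 (xorG_node (N := 1849588) bx4c70 (by decide +kernel) bx4c71))) (by decide +kernel) (xorG_node (N := 84036) (xorG_node (N := 1793280) (xorG_node (N := 529040) bx4c72 (by decide +kernel) bx4c73) (by decide +kernel) (xorG_node (N := 1298320) bx4c74 (by decide +kernel) bx4c75)) (by decide +kernel) (xorG_node (N := 1705284) (xorG_node (N := 909344) bx4c76 (by decide +kernel) bx4c77) (by decide +kernel) (xorG_node (N := 1557860) bx4c78 (by decide +kernel) bx4c79)))) (by decide +kernel) (xorG_node (N := 1526340) (xorG_node (N := 670196) (xorG_node (N := 818032) (xorG_node (N := 276432) bx4c80 (by decide +kernel) bx4c81) (by decide +kernel) (xorG_node (N := 806048) bx4c82 (by decide +kernel) bx4c83)) (by decide +kernel) (xorG_node (N := 443012) (xorG_node (N := 1077028) bx4c84 (by decide +kernel) bx4c85) (by decide +kernel) (xorG_node (N := 2010528) bx4c86 (by decide +kernel) bx4c87))) (by decide +kernel) (xorG_node (N := 2061232) (xorG_node (N := 1780484) (xorG_node (N := 931636) bx4c88 (by decide +kernel) bx4c89) (by decide +kernel) (xorG_node (N := 334896) bx4c90 (by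 decide +kernel) bx4c91)) (by decide +kernel) (xorG_node (N := 22708) (xorG_node (N := 1845392) bx4c92 (by decide +kernel) bx4c93) (by decide +kernel) (xorG_node (N := 1859620) bx4c94 (by decide +kernel) bx4c95))))) (by decide +kernel) (xorG_node (N := 400946) (xorG_node (N := 1247220) (xorG_node (N := 1951888) (xorG_node (N := 1454816) (xorG_node (N := 822340) bx4c96 (by decide +kernel) bx4c97) (by decide +kernel) (xorG_node (N := 1752228) bx4c98 (by decide +kernel) bx4c99)) (by decide +kernel) (xorG_node (N := 768624) (xorG_node (N := 743796) bx4c100 (by decide +kernel) bx4c101) (by decide +kernel) (xorG_node (N := 59140) bx4c102 (by decide +kernel) bx4c103))) (by decide +kernel) (xorG_node (N := 970084) (xorG_node (N := 953156) (xorG_node (N := 1721012) bx4c104 (by decide +kernel) bx4c105) (by decide +kernel) (xorG_node (N := 1329648) bx4c106 (by decide +kernel) bx4c107)) (by decide +kernel) (xorG_node (N := 22048) (xorG_node (N := 462960) bx4c108 (by decide +kernel) bx4c109) (by decide +kernel) (xorG_node (N := 480848) bx4c110 (by decide +kernel) bx4c111))))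 (by decide +kernel) (xorG_node (N := 1383366) (xorG_node (N := 1850580) (xorG_node (N := 1785748) (xorG_node (N := 999604) bx4c112 (by decide +kernel) bx4c113) (by decide +kernel) (xorG_node (N := 1081120) bx4c114 (by decide +kernel) bx4c115)) (by decide +kernel) (xorG_node (N := 983872) (xorG_node (N := 570896) bx4c116 (by decide +kernel) bx4c117) (by decide +kernel) (xorG_node (N := 243024) bx4c118 (by decide +kernel) bx4c119))) (by decide +kernel) (xorG_node (N := 598802) (xorG_node (N := 45314) (xorG_node (N := 136706) bx4c120 (by decide +kernel) bx4c121) (by decide +kernel) (xorG_node (N := 141056) bx4c122 (by decide +kernel) bx4c123)) (by decide +kernel) (xorG_node (N := 1675792) (xorG_node (N := 790800) bx4c124 (by decide +kernel) bx4c125) (by decide +kernel) (xorG_node (N := 1934080) bx4c126 (by decide +kernel) bx4c127)))))))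

end Cfsg.Agent.Lib.Compute.SB
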