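import Cfsg.Agent.Lib.Compute.SB.InvData
import Cfsg.Agent.Lib.Compute.SB.Chunk

/-!
# The parities of the types for a column of `M24` over all the involutions
-/

set_option autoImplicit false
set_option Elab.async false
set_option maxRecDepth 100000

namespace Cfsg.Agent.Lib.Compute.SB

open PTree

/-- The element for the column. -/
def y24x8 : ℕ := nat_lit 558686244863730905431137476148201606

theorem bx8c0 : xorG (colF tauF y24x8) iv0 0 = 1747964 := by decide +kernel
theorem bx8c1 : xorG (colF tauF y24x8) iv1 0 = 1763616 := by decide +kernel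
theorem bx8c2 : xorG (colF tauF y24x8) iv2 0 = 871680 := by decide +kernel
theorem bx8c3 : xorG (colF tauF y24x8) iv3 0 = 359272 := by decide +kernel
theorem bx8c4 : xorG (colF tauF y24x8) iv4 0 = 571536 := by decide +kernel
theorem bx8c5 : xorG (colF tauF y24x8) iv5 0 = 1916496 := by decide +kernel
theorem bx8c6 : xorG (colF tauF y24x8) iv6 0 = 1826368 := by decide +kernel
theorem bx8c7 : xorG (colF tauF y24x8) iv7 0 = 1850028 := by decide +kernel
theorem bx8c8 : xorG (colF tauF y24x8) iv8 0 = 1817920 := by decide +kernel
theorem bx8c9 : xorG (colF tauF y24x8) iv9 0 = 26584 := by decide +kernel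
theorem bx8c10 : xorG (colF tauF y24x8) iv10 0 = 1143424 := by decide +kernel
theorem bx8c11 : xorG (colF tauF y24x8) iv11 0 = 1940304 := by decide +kernel
theorem bx8c12 : xorG (colF tauF y24x8) iv12 0 = 2000176 := by decide +kernel
theorem bx8c13 : xorG (colF tauF y24x8) iv13 0 = 981584 := by decide +kernel
theorem bx8c14 : xorG (colF tauF y24x8) iv14 0 = 55072 := by decide +kernel
theorem bx8c15 : xorG (colF tauF y24x8) iv15 0 = 1831688 := by decide +kernel
theorem bx8c16 : xorG (colF tauF y24x8) iv16 0 = 376684 := by decide +kernel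
theorem bx8c17 : xorG (colF tauF y24x8) iv17 0 = 1349728 := by decide +kernel
theorem bx8c18 : xorG (colF tauF y24x8) iv18 0 = 948568 := by decide +kernel
theorem bx8c19 : xorG (colF tauF y24x8) iv19 0 = 1759056 := by decide +kernel
theorem bx8c20 : xorG (colF tauF y24x8) iv20 0 = 1294472 := by decide +kernel
theorem bx8c21 : xorG (colF tauF y24x8) iv21 0 = 264304 := by decide +kernel
theorem bx8c22 : xorG (colF tauF y24x8) iv22 0 = 848644 := by decide +kernel
theorem bx8c23 : xorG (colF tauF y24x8) iv23 0 = 891656 := by decide +kernel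
theorem bx8c24 : xorG (colF tauF y24x8) iv24 0 = 1022096 := by decide +kernel
theorem bx8c25 : xorG (colF tauF y24x8) iv25 0 = 1765472 := by decide +kernel
theorem bx8c26 : xorG (colF tauF y24x8) iv26 0 = 1609772 := by decide +kernel
theorem bx8c27 : xorG (colF tauF y24x8) iv27 0 = 1165832 := by decide +kernel
theorem bx8c28 : xorG (colF tauF y24x8) iv28 0 = 1384512 := by decide +kernel
theorem bx8c29 : xorG (colF tauF y24x8) iv29 0 = 2046304 := by decide +kernel
theorem bx8c30 : xorG (colF tauF y24x8) iv30 0 = 44160 := by decide +kernel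
theorem bx8c31 : xorG (colF tauF y24x8) iv31 0 = 853956 := by decide +kernel
theorem bx8c32 : xorG (colF tauF y24x8) iv32 0 = 869184 := by decide +kernel
theorem bx8c33 : xorG (colF tauF y24x8) iv33 0 = 1020840 := by decide +kernel
theorem bx8c34 : xorG (colF tauF y24x8) iv34 0 = 591040 := by decide +kernel
theorem bx8c35 : xorG (colF tauF y24x8) iv35 0 = 1383976 := by decide +kernel
theorem bx8c36 : xorG (colF tauF y24x8) iv36 0 = 186208 := by decide +kernel
theorem bx8c37 : xorG (colF tauF y24x8) iv37 0 = 915952 := by decide +kernel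
theorem bx8c38 : xorG (colF tauF y24x8) iv38 0 = 445152 := by decide +kernel
theorem bx8c39 : xorG (colF tauF y24x8) iv39 0 = 251920 := by decide +kernel
theorem bx8c40 : xorG (colF tauF y24x8) iv40 0 = 2026780 := by decide +kernel
theorem bx8c41 : xorG (colF tauF y24x8) iv41 0 = 2144 := by decide +kernel
theorem bx8c42 : xorG (colF tauF y24x8) iv42 0 = 695008 := by decide +kernel
theorem bx8c43 : xorG (colF tauF y24x8) iv43 0 = 1250760 := by decide +kernel
theorem bx8c44 : xorG (colF tauF y24x8) iv44 0 = 216608 := by decide +kernel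
theorem bx8c45 : xorG (colF tauF y24x8) iv45 0 = 916840 := by decide +kernel
theorem bx8c46 : xorG (colF tauF y24x8) iv46 0 = 225736 := by decide +kernel
theorem bx8c47 : xorG (colF tauF y24x8) iv47 0 = 2071976 := by decide +kernel
theorem bx8c48 : xorG (colF tauF y24x8) iv48 0 = 394660 := by decide +kernel
theorem bx8c49 : xorG (colF tauF y24x8) iv49 0 = 711168 := by decide +kernel
theorem bx8c50 : xorG (colF tauF y24x8) iv50 0 = 1162336 := by decide +kernel
theorem bx8c51 : xorG (colF tauF y24x8) iv51 0 = 808004 := by decide +kernel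
theorem bx8c52 : xorG (colF tauF y24x8) iv52 0 = 648032 := by decide +kernel
theorem bx8c53 : xorG (colF tauF y24x8) iv53 0 = 162824 := by decide +kernel
theorem bx8c54 : xorG (colF tauF y24x8) iv54 0 = 180704 := by decide +kernel
theorem bx8c55 : xorG (colF tauF y24x8) iv55 0 = 148104 := by decide +kernel
theorem bx8c56 : xorG (colF tauF y24x8) iv56 0 = 1437344 := by decide +kernel
theorem bx8c57 : xorG (colF tauF y24x8) iv57 0 = 1720248 := by decide +kernel
theorem bx8c58 : xorG (colF tauF y24x8) iv58 0 = 2064292 := by decide +kernel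
theorem bx8c59 : xorG (colF tauF y24x8) iv59 0 = 865672 := by decide +kernel
theorem bx8c60 : xorG (colF tauF y24x8) iv60 0 = 1408784 := by decide +kernel
theorem bx8c61 : xorG (colF tauF y24x8) iv61 0 = 899008 := by decide +kernel
theorem bx8c62 : xorG (colF tauF y24x8) iv62 0 = 1561056 := by decide +kernel
theorem bx8c63 : xorG (colF tauF y24x8) iv63 0 = 611944 := by decide +kernel
theorem bx8c64 : xorG (colF tauF y24x8) iv64 0 = 1404720 := by decide +kernel
theorem bx8c65 : xorG (colF tauF y24x8) iv65 0 = 1292348 := by decide +kernel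
theorem bx8c66 : xorG (colF tauF y24x8) iv66 0 = 149544 := by decide +kernel
theorem bx8c67 : xorG (colF tauF y24x8) iv67 0 = 395528 := by decide +kernel
theorem bx8c68 : xorG (colF tauF y24x8) iv68 0 = 1327624 := by decide +kernel
theorem bx8c69 : xorG (colF tauF y24x8) iv69 0 = 1315336 := by decide +kernel
theorem bx8c70 : xorG (colF tauF y24x8) iv70 0 = 416298 := by decide +kernel
theorem bx8c71 : xorG (colF tauF y24x8) iv71 0 = 1420048 := by decide +kernel
theorem bx8c72 : xorG (colF tauF y24x8) iv72 0 = 974416 := by decide +kernel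
theorem bx8c73 : xorG (colF tauF y24x8) iv73 0 = 921392 := by decide +kernel
theorem bx8c74 : xorG (colF tauF y24x8) iv74 0 = 1187170 := by decide +kernel
theorem bx8c75 : xorG (colF tauF y24x8) iv75 0 = 724064 := by decide +kernel
theorem bx8c76 : xorG (colF tauF y24x8) iv76 0 = 807532 := by decide +kernel
theorem bx8c77 : xorG (colF tauF y24x8) iv77 0 = 637128 := by decide +kernel
theorem bx8c78 : xorG (colF tauF y24x8) iv78 0 = 1219616 := by decide +kernel
theorem bx8c79 : xorG (colF tauF y24x8) iv79 0 = 721440 := by decide +kernel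
theorem bx8c80 : xorG (colF tauF y24x8) iv80 0 = 1464760 := by decide +kernel
theorem bx8c81 : xorG (colF tauF y24x8) iv81 0 = 1769728 := by decide +kernel
theorem bx8c82 : xorG (colF tauF y24x8) iv82 0 = 591712 := by decide +kernel
theorem bx8c83 : xorG (colF tauF y24x8) iv83 0 = 164904 := by decide +kernel
theorem bx8c84 : xorG (colF tauF y24x8) iv84 0 = 1448744 := by decide +kernel
theorem bx8c85 : xorG (colF tauF y24x8) iv85 0 = 1874692 := by decide +kernel
theorem bx8c86 : xorG (colF tauF y24x8) iv86 0 = 1114016 := by decide +kernel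
theorem bx8c87 : xorG (colF tauF y24x8) iv87 0 = 529088 := by decide +kernel
theorem bx8c88 : xorG (colF tauF y24x8) iv88 0 = 1173760 := by decide +kernel
theorem bx8c89 : xorG (colF tauF y24x8) iv89 0 = 1616016 := by decide +kernel
theorem bx8c90 : xorG (colF tauF y24x8) iv90 0 = 80896 := by decide +kernel
theorem bx8c91 : xorG (colF tauF y24x8) iv91 0 = 2096392 := by decide +kernel
theorem bx8c92 : xorG (colF tauF y24x8) iv92 0 = 2075520 := by decide +kernel
theorem bx8c93 : xorG (colF tauF y24x8) iv93 0 = 1179904 := by decide +kernel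
theorem bx8c94 : xorG (colF tauF y24x8) iv94 0 = 490160 := by decide +kernel
theorem bx8c95 : xorG (colF tauF y24x8) iv95 0 = 1832464 := by decide +kernel
theorem bx8c96 : xorG (colF tauF y24x8) iv96 0 = 1586320 := by decide +kernel
theorem bx8c97 : xorG (colF tauF y24x8) iv97 0 = 1055488 := by decide +kernel
theorem bx8c98 : xorG (colF tauF y24x8) iv98 0 = 414208 := by decide +kernel
theorem bx8c99 : xorG (colF tauF y24x8) iv99 0 = 1054984 := by decide +kernel
theorem bx8c100 : xorG (colF tauF y24x8) iv100 0 = 154400 := by decide +kernel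
theorem bx8c101 : xorG (colF tauF y24x8) iv101 0 = 887618 := by decide +kernel
theorem bx8c102 : xorG (colF tauF y24x8) iv102 0 = 98336 := by decide +kernel
theorem bx8c103 : xorG (colF tauF y24x8) iv103 0 = 1385664 := by decide +kernel
theorem bx8c104 : xorG (colF tauF y24x8) iv104 0 = 1371136 := by decide +kernel
theorem bx8c105 : xorG (colF tauF y24x8) iv105 0 = 1461636 := by decide +kernel
theorem bx8c106 : xorG (colF tauF y24x8) iv106 0 = 723936 := by decide +kernel
theorem bx8c107 : xorG (colF tauF y24x8) iv107 0 = 314464 := by decide +kernel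
theorem bx8c108 : xorG (colF tauF y24x8) iv108 0 = 145784 := by decide +kernel
theorem bx8c109 : xorG (colF tauF y24x8) iv109 0 = 641252 := by decide +kernel
theorem bx8c110 : xorG (colF tauF y24x8) iv110 0 = 1635872 := by decide +kernel
theorem bx8c111 : xorG (colF tauF y24x8) iv111 0 = 970248 := by decide +kernel
theorem bx8c112 : xorG (colF tauF y24x8) iv112 0 = 1960496 := by decide +kernel
theorem bx8c113 : xorG (colF tauF y24x8) iv113 0 = 74824 := by decide +kernel
theorem bx8c114 : xorG (colF tauF y24x8) iv114 0 = 1290832 := by decide +kernel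
theorem bx8c115 : xorG (colF tauF y24x8) iv115 0 = 1029448 := by decide +kernel
theorem bx8c116 : xorG (colF tauF y24x8) iv116 0 = 1176370 := by decide +kernel
theorem bx8c117 : xorG (colF tauF y24x8) iv117 0 = 1264136 := by decide +kernel
theorem bx8c118 : xorG (colF tauF y24x8) iv118 0 = 1471752 := by decide +kernel
theorem bx8c119 : xorG (colF tauF y24x8) iv119 0 = 1321760 := by decide +kernel
theorem bx8c120 : xorG (colF tauF y24x8) iv120 0 = 554528 := by decide +kernel
theorem bx8c121 : xorG (colF tauF y24x8) iv121 0 = 435714 := by decide +kernel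
theorem bx8c122 : xorG (colF tauF y24x8) iv122 0 = 1617152 := by decide +kernel
theorem bx8c123 : xorG (colF tauF y24x8) iv123 0 = 1357096 := by decide +kernel
theorem bx8c124 : xorG (colF tauF y24x8) iv124 0 = 379424 := by decide +kernel
theorem bx8c125 : xorG (colF tauF y24x8) iv125 0 = 1367808 := by decide +kernel
theorem bx8c126 : xorG (colF tauF y24x8) iv126 0 = 563232 := by decide +kernel
theorem bx8c127 : xorG (colF tauF y24x8) iv127 0 = 284680 := by decide +kernel

theorem bits24x8 : xorG (colF tauF y24x8) invT 0 = 6 :=
  (xorG_node (N := 6) (xorG_node (N := 456008) (xorG_node (N := 139192) (xorG_node (N := 923544) (xorG_node (N := 71576) (xorG_node (N := 1012916) (xorG_node (N := 82652) bx8c0 (by decide +kernel) bx8c1) (by decide +kernel) (xorG_node (N := 800360) bx8c2 (by decide +kernel) bx8c3)) (by decide +kernel) (xorG_node (N := 680748) (xorG_node (N := 1411008) bx8c4 (by decide +kernel) bx8c5) (by decide +kernel) (xorG_node (N := 1565932) bx8c6 (by decide +kernel) bx8c7))) (by decide +kernel) (xorG_node (N := 983552) (xorG_node (N := 487752) (xorG_node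 (N := 1824920) bx8c8 (by decide +kernel) bx8c9) (by decide +kernel) (xorG_node (N := 1894864) bx8c10 (by decide +kernel) bx8c11)) (by decide +kernel) (xorG_node (N := 619336) (xorG_node (N := 1079136) bx8c12 (by decide +kernel) bx8c13) (by decide +kernel) (xorG_node (N := 1770536) bx8c14 (by decide +kernel) bx8c15)))) (by decide +kernel) (xorG_node (N := 788480) (xorG_node (N := 1657072) (xorG_node (N := 894980) (xorG_node (N := 1648396) bx8c16 (by decide +kernel) bx8c17) (by decide +kernel) (xorG_node (N := 1347080) bx8c18 (by decide +kernel) bx8c19)) (by decide +kernel) (xorG_node (N := 1351924) (xorG_node (N := 1427704) bx8c20 (by decide +kernel) bx8c21) (by decide +kernel) (xorG_node (N := 75788) bx8c22 (by decide +kernel) bx8c23))) (by decide +kernel) (xorG_node (N := 1917168) (xorG_node (N := 1847956) (xorG_node (N := 1403056) bx8c24 (by decide +kernel) bx8c25) (by decide +kernel) (xorG_node (N := 621092) bx8c26 (by decide +kernel) bx8c27)) (by decide +kernel) (xorG_node (N := 127588) (xorG_node (N := 530720) bx8c28 (by decide +kernel) bx8c29) (by decide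 +kernel) (xorG_node (N := 633668) bx8c30 (by decide +kernel) bx8c31))))) (by decide +kernel) (xorG_node (N := 305904) (xorG_node (N := 849180) (xorG_node (N := 1331808) (xorG_node (N := 1919488) (xorG_node (N := 151784) bx8c32 (by decide +kernel) bx8c33) (by decide +kernel) (xorG_node (N := 1907432) bx8c34 (by decide +kernel) bx8c35)) (by decide +kernel) (xorG_node (N := 727136) (xorG_node (N := 993936) bx8c36 (by decide +kernel) bx8c37) (by decide +kernel) (xorG_node (N := 266992) bx8c38 (by decide +kernel) bx8c39))) (by decide +kernel) (xorG_node (N := 1877884) (xorG_node (N := 490068) (xorG_node (N := 1500540) bx8c40 (by decide +kernel) bx8c41) (by decide +kernel) (xorG_node (N := 1679144) bx8c42 (by decide +kernel) bx8c43)) (by decide +kernel) (xorG_node (N := 1301800) (xorG_node (N := 930632) bx8c44 (by decide +kernel) bx8c45) (by decide +kernel) (xorG_node (N := 1961056) bx8c46 (by decide +kernel) bx8c47)))) (by decide +kernel) (xorG_node (N := 679916) (xorG_node (N := 2075520) (xorG_node (N := 1554304) (xorG_node (N := 581540) bx8c48 (by decide +kernel)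 bx8c49) (by decide +kernel) (xorG_node (N := 1927204) bx8c50 (by decide +kernel) bx8c51)) (by decide +kernel) (xorG_node (N := 662528) (xorG_node (N := 759656) bx8c52 (by decide +kernel) bx8c53) (by decide +kernel) (xorG_node (N := 35688) bx8c54 (by decide +kernel) bx8c55))) (by decide +kernel) (xorG_node (N := 1176684) (xorG_node (N := 1514292) (xorG_node (N := 512280) bx8c56 (by decide +kernel) bx8c57) (by decide +kernel) (xorG_node (N := 1067564) bx8c58 (by decide +kernel) bx8c59)) (by decide +kernel) (xorG_node (N := 446296) (xorG_node (N := 1591504) bx8c60 (by decide +kernel) bx8c61) (by decide +kernel) (xorG_node (N := 1968008) bx8c62 (by decide +kernel) bx8c63)))))) (by decide +kernel) (xorG_node (N := 456526) (xorG_node (N := 656276) (xorG_node (N := 2028496) (xorG_node (N := 349462) (xorG_node (N := 439340) (xorG_node (N := 456460) bx8c64 (by decide +kernel) bx8c65) (by decide +kernel) (xorG_node (N := 16672) bx8c66 (by decide +kernel) bx8c67)) (by decide +kernel) (xorG_node (N := 258362) (xorG_node (N := 4096) bx8c68 (by decide +kernel) bx8c69) (by decide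 +kernel) (xorG_node (N := 1302842) bx8c70 (by decide +kernel) bx8c71))) (by decide +kernel) (xorG_node (N := 1287878) (xorG_node (N := 901730) (xorG_node (N := 315744) bx8c72 (by decide +kernel) bx8c73) (by decide +kernel) (xorG_node (N := 594178) bx8c74 (by decide +kernel) bx8c75)) (by decide +kernel) (xorG_node (N := 1995940) (xorG_node (N := 912036) bx8c76 (by decide +kernel) bx8c77) (by decide +kernel) (xorG_node (N := 1154560) bx8c78 (by decide +kernel) bx8c79)))) (by decide +kernel) (xorG_node (N := 1339460) (xorG_node (N := 1230524) (xorG_node (N := 451568) (xorG_node (N := 870584) bx8c80 (by decide +kernel) bx8c81) (by decide +kernel) (xorG_node (N := 762696) bx8c82 (by decide +kernel) bx8c83)) (by decide +kernel) (xorG_node (N := 1336652) (xorG_node (N := 557100) bx8c84 (by decide +kernel) bx8c85) (by decide +kernel) (xorG_node (N := 1895776) bx8c86 (by decide +kernel) bx8c87))) (by decide +kernel) (xorG_node (N := 177912) (xorG_node (N := 229592) (xorG_node (N := 868752) bx8c88 (by decide +kernel) bx8c89) (by decide +kernel) (xorG_node (N := 2015560)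 bx8c90 (by decide +kernel) bx8c91)) (by decide +kernel) (xorG_node (N := 75296) (xorG_node (N := 633472) bx8c92 (by decide +kernel) bx8c93) (by decide +kernel) (xorG_node (N := 1608864) bx8c94 (by decide +kernel) bx8c95))))) (by decide +kernel) (xorG_node (N := 816346) (xorG_node (N := 120746) (xorG_node (N := 1329178) (xorG_node (N := 814232) (xorG_node (N := 1585040) bx8c96 (by decide +kernel) bx8c97) (by decide +kernel) (xorG_node (N := 1329928) bx8c98 (by decide +kernel) bx8c99)) (by decide +kernel) (xorG_node (N := 1586306) (xorG_node (N := 1020002) bx8c100 (by decide +kernel) bx8c101) (by decide +kernel) (xorG_node (N := 1484000) bx8c102 (by decide +kernel) bx8c103))) (by decide +kernel) (xorG_node (N := 1425328) (xorG_node (N := 882180) (xorG_node (N := 139652) bx8c104 (by decide +kernel) bx8c105) (by decide +kernel) (xorG_node (N := 1001344) bx8c106 (by decide +kernel) bx8c107)) (by decide +kernel) (xorG_node (N := 1886644) (xorG_node (N := 774556) bx8c108 (by decide +kernel) bx8c109) (by decide +kernel) (xorG_node (N := 1447976) bx8c110 (by decide +kernel)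 bx8c111)))) (by decide +kernel) (xorG_node (N := 861040) (xorG_node (N := 9842) (xorG_node (N := 1214816) (xorG_node (N := 1871480) bx8c112 (by decide +kernel) bx8c113) (by decide +kernel) (xorG_node (N := 1967896) bx8c114 (by decide +kernel) bx8c115)) (by decide +kernel) (xorG_node (N := 1093394) (xorG_node (N := 176442) bx8c116 (by decide +kernel) bx8c117) (by decide +kernel) (xorG_node (N := 1203752) bx8c118 (by decide +kernel) bx8c119))) (by decide +kernel) (xorG_node (N := 857346) (xorG_node (N := 51210) (xorG_node (N := 954402) bx8c120 (by decide +kernel) bx8c121) (by decide +kernel) (xorG_node (N := 923688) bx8c122 (by decide +kernel) bx8c123)) (by decide +kernel) (xorG_node (N := 892168) (xorG_node (N := 70944) bx8c124 (by decide +kernel) bx8c125) (by decide +kernel) (xorG_node (N := 837672) bx8c126 (by decide +kernel) bx8c127)))))))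

end Cfsg.Agent.Lib.Compute.SB
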