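import Cfsg.Agent.Lib.Compute.SB.InvConjS

/-!
# The tree of involutions is invariant under conjugation by a generator of `M24`
-/

set_option autoImplicit false
set_option Elab.async false
set_option maxRecDepth 100000

namespace Cfsg.Agent.Lib.Compute.SB

open PTree

theorem cjC0 : allK (conjF gC gCi invT) iv0 = true := by decide +kernel
theorem cjC1 : allK (conjF gC gCi invT) iv1 = true := by decide +kernel
theorem cjC2 : allK (conjF gC gCi invT) iv2 = true := by decide +kernel
theorem cjC3 : allK (conjF gC gCi invT) iv3 = true := by decide +kernel
theorem cjC4 : allK (conjF gC gCi invT) iv4 = true := by decide +kernel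
theorem cjC5 : allK (conjF gC gCi invT) iv5 = true := by decide +kernel
theorem cjC6 : allK (conjF gC gCi invT) iv6 = true := by decide +kernel
theorem cjC7 : allK (conjF gC gCi invT) iv7 = true := by decide +kernel
theorem cjC8 : allK (conjF gC gCi invT) iv8 = true := by decide +kernel
theorem cjC9 : allK (conjF gC gCi invT) iv9 = true := by decide +kernel
theorem cjC10 : allK (conjF gC gCi invT) iv10 = true := by decide +kernel
theorem cjC11 : allK (conjF gC gCi invT) iv11 = true := by decide +kernel
theorem cjC12 : allK (conjF gC gCi invT) iv12 = true := by decide +kernel
theorem cjC13 : allK (conjF gC gCi invT) iv13 = true := by decide +kernel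
theorem cjC14 : allK (conjF gC gCi invT) iv14 = true := by decide +kernel
theorem cjC15 : allK (conjF gC gCi invT) iv15 = true := by decide +kernel
theorem cjC16 : allK (conjF gC gCi invT) iv16 = true := by decide +kernel
theorem cjC17 : allK (conjF gC gCi invT) iv17 = true := by decide +kernel
theorem cjC18 : allK (conjF gC gCi invT) iv18 = true := by decide +kernel
theorem cjC19 : allK (conjF gC gCi invT) iv19 = true := by decide +kernel
theorem cjC20 : allK (conjF gC gCi invT) iv20 = true := by decide +kernel
theorem cjC21 : allK (conjF gC gCi invT) iv21 = true := by decide +kernel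
theorem cjC22 : allK (conjF gC gCi invT) iv22 = true := by decide +kernel
theorem cjC23 : allK (conjF gC gCi invT) iv23 = true := by decide +kernel
theorem cjC24 : allK (conjF gC gCi invT) iv24 = true := by decide +kernel
theorem cjC25 : allK (conjF gC gCi invT) iv25 = true := by decide +kernel
theorem cjC26 : allK (conjF gC gCi invT) iv26 = true := by decide +kernel
theorem cjC27 : allK (conjF gC gCi invT) iv27 = true := by decide +kernel
theorem cjC28 : allK (conjF gC gCi invT) iv28 = true := by decide +kernel
theorem cjC29 : allK (conjF gC gCi invT) iv29 = true := by decide +kernel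
theorem cjC30 : allK (conjF gC gCi invT) iv30 = true := by decide +kernel
theorem cjC31 : allK (conjF gC gCi invT) iv31 = true := by decide +kernel
theorem cjC32 : allK (conjF gC gCi invT) iv32 = true := by decide +kernel
theorem cjC33 : allK (conjF gC gCi invT) iv33 = true := by decide +kernel
theorem cjC34 : allK (conjF gC gCi invT) iv34 = true := by decide +kernel
theorem cjC35 : allK (conjF gC gCi invT) iv35 = true := by decide +kernel
theorem cjC36 : allK (conjF gC gCi invT) iv36 = true := by decide +kernel
theorem cjC37 : allK (conjF gC gCi invT) iv37 = true := by decide +kernel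
theorem cjC38 : allK (conjF gC gCi invT) iv38 = true := by decide +kernel
theorem cjC39 : allK (conjF gC gCi invT) iv39 = true := by decide +kernel
theorem cjC40 : allK (conjF gC gCi invT) iv40 = true := by decide +kernel
theorem cjC41 : allK (conjF gC gCi invT) iv41 = true := by decide +kernel
theorem cjC42 : allK (conjF gC gCi invT) iv42 = true := by decide +kernel
theorem cjC43 : allK (conjF gC gCi invT) iv43 = true := by decide +kernel
theorem cjC44 : allK (conjF gC gCi invT) iv44 = true := by decide +kernel
theorem cjC45 : allK (conjF gC gCi invT) iv45 = true := by decide +kernel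
theorem cjC46 : allK (conjF gC gCi invT) iv46 = true := by decide +kernel
theorem cjC47 : allK (conjF gC gCi invT) iv47 = true := by decide +kernel
theorem cjC48 : allK (conjF gC gCi invT) iv48 = true := by decide +kernel
theorem cjC49 : allK (conjF gC gCi invT) iv49 = true := by decide +kernel
theorem cjC50 : allK (conjF gC gCi invT) iv50 = true := by decide +kernel
theorem cjC51 : allK (conjF gC gCi invT) iv51 = true := by decide +kernel
theorem cjC52 : allK (conjF gC gCi invT) iv52 = true := by decide +kernel
theorem cjC53 : allK (conjF gC gCi invT) iv53 = true := by decide +kernel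
theorem cjC54 : allK (conjF gC gCi invT) iv54 = true := by decide +kernel
theorem cjC55 : allK (conjF gC gCi invT) iv55 = true := by decide +kernel
theorem cjC56 : allK (conjF gC gCi invT) iv56 = true := by decide +kernel
theorem cjC57 : allK (conjF gC gCi invT) iv57 = true := by decide +kernel
theorem cjC58 : allK (conjF gC gCi invT) iv58 = true := by decide +kernel
theorem cjC59 : allK (conjF gC gCi invT) iv59 = true := by decide +kernel
theorem cjC60 : allK (conjF gC gCi invT) iv60 = true := by decide +kernel
theorem cjC61 : allK (conjF gC gCi invT) iv61 = true := by decide +kernel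
theorem cjC62 : allK (conjF gC gCi invT) iv62 = true := by decide +kernel
theorem cjC63 : allK (conjF gC gCi invT) iv63 = true := by decide +kernel
theorem cjC64 : allK (conjF gC gCi invT) iv64 = true := by decide +kernel
theorem cjC65 : allK (conjF gC gCi invT) iv65 = true := by decide +kernel
theorem cjC66 : allK (conjF gC gCi invT) iv66 = true := by decide +kernel
theorem cjC67 : allK (conjF gC gCi invT) iv67 = true := by decide +kernel
theorem cjC68 : allK (conjF gC gCi invT) iv68 = true := by decide +kernel
theorem cjC69 : allK (conjF gC gCi invT) iv69 = true := by decide +kernel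
theorem cjC70 : allK (conjF gC gCi invT) iv70 = true := by decide +kernel
theorem cjC71 : allK (conjF gC gCi invT) iv71 = true := by decide +kernel
theorem cjC72 : allK (conjF gC gCi invT) iv72 = true := by decide +kernel
theorem cjC73 : allK (conjF gC gCi invT) iv73 = true := by decide +kernel
theorem cjC74 : allK (conjF gC gCi invT) iv74 = true := by decide +kernel
theorem cjC75 : allK (conjF gC gCi invT) iv75 = true := by decide +kernel
theorem cjC76 : allK (conjF gC gCi invT) iv76 = true := by decide +kernel
theorem cjC77 : allK (conjF gC gCi invT) iv77 = true := by decide +kernel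
theorem cjC78 : allK (conjF gC gCi invT) iv78 = true := by decide +kernel
theorem cjC79 : allK (conjF gC gCi invT) iv79 = true := by decide +kernel
theorem cjC80 : allK (conjF gC gCi invT) iv80 = true := by decide +kernel
theorem cjC81 : allK (conjF gC gCi invT) iv81 = true := by decide +kernel
theorem cjC82 : allK (conjF gC gCi invT) iv82 = true := by decide +kernel
theorem cjC83 : allK (conjF gC gCi invT) iv83 = true := by decide +kernel
theorem cjC84 : allK (conjF gC gCi invT) iv84 = true := by decide +kernel
theorem cjC85 : allK (conjF gC gCi invT) iv85 = true := by decide +kernel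
theorem cjC86 : allK (conjF gC gCi invT) iv86 = true := by decide +kernel
theorem cjC87 : allK (conjF gC gCi invT) iv87 = true := by decide +kernel
theorem cjC88 : allK (conjF gC gCi invT) iv88 = true := by decide +kernel
theorem cjC89 : allK (conjF gC gCi invT) iv89 = true := by decide +kernel
theorem cjC90 : allK (conjF gC gCi invT) iv90 = true := by decide +kernel
theorem cjC91 : allK (conjF gC gCi invT) iv91 = true := by decide +kernel
theorem cjC92 : allK (conjF gC gCi invT) iv92 = true := by decide +kernel
theorem cjC93 : allK (conjF gC gCi invT) iv93 = true := by decide +kernel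
theorem cjC94 : allK (conjF gC gCi invT) iv94 = true := by decide +kernel
theorem cjC95 : allK (conjF gC gCi invT) iv95 = true := by decide +kernel
theorem cjC96 : allK (conjF gC gCi invT) iv96 = true := by decide +kernel
theorem cjC97 : allK (conjF gC gCi invT) iv97 = true := by decide +kernel
theorem cjC98 : allK (conjF gC gCi invT) iv98 = true := by decide +kernel
theorem cjC99 : allK (conjF gC gCi invT) iv99 = true := by decide +kernel
theorem cjC100 : allK (conjF gC gCi invT) iv100 = true := by decide +kernel
theorem cjC101 : allK (conjF gC gCi invT) iv101 = true := by decide +kernel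
theorem cjC102 : allK (conjF gC gCi invT) iv102 = true := by decide +kernel
theorem cjC103 : allK (conjF gC gCi invT) iv103 = true := by decide +kernel
theorem cjC104 : allK (conjF gC gCi invT) iv104 = true := by decide +kernel
theorem cjC105 : allK (conjF gC gCi invT) iv105 = true := by decide +kernel
theorem cjC106 : allK (conjF gC gCi invT) iv106 = true := by decide +kernel
theorem cjC107 : allK (conjF gC gCi invT) iv107 = true := by decide +kernel
theorem cjC108 : allK (conjF gC gCi invT) iv108 = true := by decide +kernel
theorem cjC109 : allK (conjF gC gCi invT) iv109 = true := by decide +kernel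
theorem cjC110 : allK (conjF gC gCi invT) iv110 = true := by decide +kernel
theorem cjC111 : allK (conjF gC gCi invT) iv111 = true := by decide +kernel
theorem cjC112 : allK (conjF gC gCi invT) iv112 = true := by decide +kernel
theorem cjC113 : allK (conjF gC gCi invT) iv113 = true := by decide +kernel
theorem cjC114 : allK (conjF gC gCi invT) iv114 = true := by decide +kernel
theorem cjC115 : allK (conjF gC gCi invT) iv115 = true := by decide +kernel
theorem cjC116 : allK (conjF gC gCi invT) iv116 = true := by decide +kernel
theorem cjC117 : allK (conjF gC gCi invT) iv117 = true := by decide +kernel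
theorem cjC118 : allK (conjF gC gCi invT) iv118 = true := by decide +kernel
theorem cjC119 : allK (conjF gC gCi invT) iv119 = true := by decide +kernel
theorem cjC120 : allK (conjF gC gCi invT) iv120 = true := by decide +kernel
theorem cjC121 : allK (conjF gC gCi invT) iv121 = true := by decide +kernel
theorem cjC122 : allK (conjF gC gCi invT) iv122 = true := by decide +kernel
theorem cjC123 : allK (conjF gC gCi invT) iv123 = true := by decide +kernel
theorem cjC124 : allK (conjF gC gCi invT) iv124 = true := by decide +kernel
theorem cjC125 : allK (conjF gC gCi invT) iv125 = true := by decide +kernel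
theorem cjC126 : allK (conjF gC gCi invT) iv126 = true := by decide +kernel
theorem cjC127 : allK (conjF gC gCi invT) iv127 = true := by decide +kernel

theorem conj_gC : allK (conjF gC gCi invT) invT = true :=
  (allK_node (allK_node (allK_node (allK_node (allK_node (allK_node (allK_node cjC0 (by decide +kernel) cjC1) (by decide +kernel) (allK_node cjC2 (by decide +kernel) cjC3)) (by decide +kernel) (allK_node (allK_node cjC4 (by decide +kernel) cjC5) (by decide +kernel) (allK_node cjC6 (by decide +kernel) cjC7))) (by decide +kernel) (allK_node (allK_node (allK_node cjC8 (by decide +kernel) cjC9) (by decide +kernel) (allK_node cjC10 (by decide +kernel) cjC11)) (by decide +kernel) (allK_node (allK_node cjC12 (by decide +kernel) cjC13) (by decide +kernel) (allK_node cjC14 (by decide +kernel) cjC15)))) (by decide +kernel) (allK_node (allK_node (allK_node (allK_node cjC16 (by decide +kernel) cjC17) (by decide +kernel) (allK_node cjC18 (by decide +kernel) cjC19)) (by decide +kernel) (allK_node (allK_node cjC20 (by decide +kernel) cjC21) (by decide +kernel) (allK_node cjC22 (by decide +kernel) cjC23))) (by decide +kernel) (allK_node (allK_node (allK_node cjC24 (by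 decide +kernel) cjC25) (by decide +kernel) (allK_node cjC26 (by decide +kernel) cjC27)) (by decide +kernel) (allK_node (allK_node cjC28 (by decide +kernel) cjC29) (by decide +kernel) (allK_node cjC30 (by decide +kernel) cjC31))))) (by decide +kernel) (allK_node (allK_node (allK_node (allK_node (allK_node cjC32 (by decide +kernel) cjC33) (by decide +kernel) (allK_node cjC34 (by decide +kernel) cjC35)) (by decide +kernel) (allK_node (allK_node cjC36 (by decide +kernel) cjC37) (by decide +kernel) (allK_node cjC38 (by decide +kernel) cjC39))) (by decide +kernel) (allK_node (allK_node (allK_node cjC40 (by decide +kernel) cjC41) (by decide +kernel) (allK_node cjC42 (by decide +kernel) cjC43)) (by decide +kernel) (allK_node (allK_node cjC44 (by decide +kernel) cjC45) (by decide +kernel) (allK_node cjC46 (by decide +kernel) cjC47)))) (by decide +kernel) (allK_node (allK_node (allK_node (allK_node cjC48 (by decide +kernel) cjC49) (by decide +kernel) (allK_node cjC50 (by decide +kernel) cjC51)) (by decide +kernel) (allK_node (allK_node cjC52 (by decide +kernel) cjC53) (by decide +kernel) (allK_node cjC54 (by decide +kernel) cjC55))) (by decide +kernel) (allK_node (allK_node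 (allK_node cjC56 (by decide +kernel) cjC57) (by decide +kernel) (allK_node cjC58 (by decide +kernel) cjC59)) (by decide +kernel) (allK_node (allK_node cjC60 (by decide +kernel) cjC61) (by decide +kernel) (allK_node cjC62 (by decide +kernel) cjC63)))))) (by decide +kernel) (allK_node (allK_node (allK_node (allK_node (allK_node (allK_node cjC64 (by decide +kernel) cjC65) (by decide +kernel) (allK_node cjC66 (by decide +kernel) cjC67)) (by decide +kernel) (allK_node (allK_node cjC68 (by decide +kernel) cjC69) (by decide +kernel) (allK_node cjC70 (by decide +kernel) cjC71))) (by decide +kernel) (allK_node (allK_node (allK_node cjC72 (by decide +kernel) cjC73) (by decide +kernel) (allK_node cjC74 (by decide +kernel) cjC75)) (by decide +kernel) (allK_node (allK_node cjC76 (by decide +kernel) cjC77) (by decide +kernel) (allK_node cjC78 (by decide +kernel) cjC79)))) (by decide +kernel) (allK_node (allK_node (allK_node (allK_node cjC80 (by decide +kernel) cjC81) (by decide +kernel) (allK_node cjC82 (by decide +kernel) cjC83)) (by decide +kernel) (allK_node (allK_node cjC84 (by decide +kernel) cjC85) (by decide +kernel) (allK_node cjC86 (by decide +kernel) cjC87))) (by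 decide +kernel) (allK_node (allK_node (allK_node cjC88 (by decide +kernel) cjC89) (by decide +kernel) (allK_node cjC90 (by decide +kernel) cjC91)) (by decide +kernel) (allK_node (allK_node cjC92 (by decide +kernel) cjC93) (by decide +kernel) (allK_node cjC94 (by decide +kernel) cjC95))))) (by decide +kernel) (allK_node (allK_node (allK_node (allK_node (allK_node cjC96 (by decide +kernel) cjC97) (by decide +kernel) (allK_node cjC98 (by decide +kernel) cjC99)) (by decide +kernel) (allK_node (allK_node cjC100 (by decide +kernel) cjC101) (by decide +kernel) (allK_node cjC102 (by decide +kernel) cjC103))) (by decide +kernel) (allK_node (allK_node (allK_node cjC104 (by decide +kernel) cjC105) (by decide +kernel) (allK_node cjC106 (by decide +kernel) cjC107)) (by decide +kernel) (allK_node (allK_node cjC108 (by decide +kernel) cjC109) (by decide +kernel) (allK_node cjC110 (by decide +kernel) cjC111)))) (by decide +kernel) (allK_node (allK_node (allK_node (allK_node cjC112 (by decide +kernel) cjC113) (by decide +kernel) (allK_node cjC114 (by decide +kernel) cjC115)) (by decide +kernel) (allK_node (allK_node cjC116 (by decide +kernel) cjC117) (by decide +kernel) (allK_node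 cjC118 (by decide +kernel) cjC119))) (by decide +kernel) (allK_node (allK_node (allK_node cjC120 (by decide +kernel) cjC121) (by decide +kernel) (allK_node cjC122 (by decide +kernel) cjC123)) (by decide +kernel) (allK_node (allK_node cjC124 (by decide +kernel) cjC125) (by decide +kernel) (allK_node cjC126 (by decide +kernel) cjC127)))))))

end Cfsg.Agent.Lib.Compute.SB
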