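import Cfsg.Agent.Lib.Compute.SB.InvConjS

/-!
# The tree of involutions is invariant under conjugation by a generator of `M24`
-/

set_option autoImplicit false
set_option Elab.async false
set_option maxRecDepth 100000

namespace Cfsg.Agent.Lib.Compute.SB

open PTree

theorem cjP0 : allK (conjF gP gP invT) iv0 = true := by decide +kernel
theorem cjP1 : allK (conjF gP gP invT) iv1 = true := by decide +kernel
theorem cjP2 : allK (conjF gP gP invT) iv2 = true := by decide +kernel
theorem cjP3 : allK (conjF gP gP invT) iv3 = true := by decide +kernel
theorem cjP4 : allK (conjF gP gP invT) iv4 = true := by decide +kernel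
theorem cjP5 : allK (conjF gP gP invT) iv5 = true := by decide +kernel
theorem cjP6 : allK (conjF gP gP invT) iv6 = true := by decide +kernel
theorem cjP7 : allK (conjF gP gP invT) iv7 = true := by decide +kernel
theorem cjP8 : allK (conjF gP gP invT) iv8 = true := by decide +kernel
theorem cjP9 : allK (conjF gP gP invT) iv9 = true := by decide +kernel
theorem cjP10 : allK (conjF gP gP invT) iv10 = true := by decide +kernel
theorem cjP11 : allK (conjF gP gP invT) iv11 = true := by decide +kernel
theorem cjP12 : allK (conjF gP gP invT) iv12 = true := by decide +kernel
theorem cjP13 : allK (conjF gP gP invT) iv13 = true := by decide +kernel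
theorem cjP14 : allK (conjF gP gP invT) iv14 = true := by decide +kernel
theorem cjP15 : allK (conjF gP gP invT) iv15 = true := by decide +kernel
theorem cjP16 : allK (conjF gP gP invT) iv16 = true := by decide +kernel
theorem cjP17 : allK (conjF gP gP invT) iv17 = true := by decide +kernel
theorem cjP18 : allK (conjF gP gP invT) iv18 = true := by decide +kernel
theorem cjP19 : allK (conjF gP gP invT) iv19 = true := by decide +kernel
theorem cjP20 : allK (conjF gP gP invT) iv20 = true := by decide +kernel
theorem cjP21 : allK (conjF gP gP invT) iv21 = true := by decide +kernel
theorem cjP22 : allK (conjF gP gP invT) iv22 = true := by decide +kernel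
theorem cjP23 : allK (conjF gP gP invT) iv23 = true := by decide +kernel
theorem cjP24 : allK (conjF gP gP invT) iv24 = true := by decide +kernel
theorem cjP25 : allK (conjF gP gP invT) iv25 = true := by decide +kernel
theorem cjP26 : allK (conjF gP gP invT) iv26 = true := by decide +kernel
theorem cjP27 : allK (conjF gP gP invT) iv27 = true := by decide +kernel
theorem cjP28 : allK (conjF gP gP invT) iv28 = true := by decide +kernel
theorem cjP29 : allK (conjF gP gP invT) iv29 = true := by decide +kernel
theorem cjP30 : allK (conjF gP gP invT) iv30 = true := by decide +kernel
theorem cjP31 : allK (conjF gP gP invT) iv31 = true := by decide +kernel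
theorem cjP32 : allK (conjF gP gP invT) iv32 = true := by decide +kernel
theorem cjP33 : allK (conjF gP gP invT) iv33 = true := by decide +kernel
theorem cjP34 : allK (conjF gP gP invT) iv34 = true := by decide +kernel
theorem cjP35 : allK (conjF gP gP invT) iv35 = true := by decide +kernel
theorem cjP36 : allK (conjF gP gP invT) iv36 = true := by decide +kernel
theorem cjP37 : allK (conjF gP gP invT) iv37 = true := by decide +kernel
theorem cjP38 : allK (conjF gP gP invT) iv38 = true := by decide +kernel
theorem cjP39 : allK (conjF gP gP invT) iv39 = true := by decide +kernel
theorem cjP40 : allK (conjF gP gP invT) iv40 = true := by decide +kernel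
theorem cjP41 : allK (conjF gP gP invT) iv41 = true := by decide +kernel
theorem cjP42 : allK (conjF gP gP invT) iv42 = true := by decide +kernel
theorem cjP43 : allK (conjF gP gP invT) iv43 = true := by decide +kernel
theorem cjP44 : allK (conjF gP gP invT) iv44 = true := by decide +kernel
theorem cjP45 : allK (conjF gP gP invT) iv45 = true := by decide +kernel
theorem cjP46 : allK (conjF gP gP invT) iv46 = true := by decide +kernel
theorem cjP47 : allK (conjF gP gP invT) iv47 = true := by decide +kernel
theorem cjP48 : allK (conjF gP gP invT) iv48 = true := by decide +kernel
theorem cjP49 : allK (conjF gP gP invT) iv49 = true := by decide +kernel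
theorem cjP50 : allK (conjF gP gP invT) iv50 = true := by decide +kernel
theorem cjP51 : allK (conjF gP gP invT) iv51 = true := by decide +kernel
theorem cjP52 : allK (conjF gP gP invT) iv52 = true := by decide +kernel
theorem cjP53 : allK (conjF gP gP invT) iv53 = true := by decide +kernel
theorem cjP54 : allK (conjF gP gP invT) iv54 = true := by decide +kernel
theorem cjP55 : allK (conjF gP gP invT) iv55 = true := by decide +kernel
theorem cjP56 : allK (conjF gP gP invT) iv56 = true := by decide +kernel
theorem cjP57 : allK (conjF gP gP invT) iv57 = true := by decide +kernel
theorem cjP58 : allK (conjF gP gP invT) iv58 = true := by decide +kernel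
theorem cjP59 : allK (conjF gP gP invT) iv59 = true := by decide +kernel
theorem cjP60 : allK (conjF gP gP invT) iv60 = true := by decide +kernel
theorem cjP61 : allK (conjF gP gP invT) iv61 = true := by decide +kernel
theorem cjP62 : allK (conjF gP gP invT) iv62 = true := by decide +kernel
theorem cjP63 : allK (conjF gP gP invT) iv63 = true := by decide +kernel
theorem cjP64 : allK (conjF gP gP invT) iv64 = true := by decide +kernel
theorem cjP65 : allK (conjF gP gP invT) iv65 = true := by decide +kernel
theorem cjP66 : allK (conjF gP gP invT) iv66 = true := by decide +kernel
theorem cjP67 : allK (conjF gP gP invT) iv67 = true := by decide +kernel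
theorem cjP68 : allK (conjF gP gP invT) iv68 = true := by decide +kernel
theorem cjP69 : allK (conjF gP gP invT) iv69 = true := by decide +kernel
theorem cjP70 : allK (conjF gP gP invT) iv70 = true := by decide +kernel
theorem cjP71 : allK (conjF gP gP invT) iv71 = true := by decide +kernel
theorem cjP72 : allK (conjF gP gP invT) iv72 = true := by decide +kernel
theorem cjP73 : allK (conjF gP gP invT) iv73 = true := by decide +kernel
theorem cjP74 : allK (conjF gP gP invT) iv74 = true := by decide +kernel
theorem cjP75 : allK (conjF gP gP invT) iv75 = true := by decide +kernel
theorem cjP76 : allK (conjF gP gP invT) iv76 = true := by decide +kernel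
theorem cjP77 : allK (conjF gP gP invT) iv77 = true := by decide +kernel
theorem cjP78 : allK (conjF gP gP invT) iv78 = true := by decide +kernel
theorem cjP79 : allK (conjF gP gP invT) iv79 = true := by decide +kernel
theorem cjP80 : allK (conjF gP gP invT) iv80 = true := by decide +kernel
theorem cjP81 : allK (conjF gP gP invT) iv81 = true := by decide +kernel
theorem cjP82 : allK (conjF gP gP invT) iv82 = true := by decide +kernel
theorem cjP83 : allK (conjF gP gP invT) iv83 = true := by decide +kernel
theorem cjP84 : allK (conjF gP gP invT) iv84 = true := by decide +kernel
theorem cjP85 : allK (conjF gP gP invT) iv85 = true := by decide +kernel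
theorem cjP86 : allK (conjF gP gP invT) iv86 = true := by decide +kernel
theorem cjP87 : allK (conjF gP gP invT) iv87 = true := by decide +kernel
theorem cjP88 : allK (conjF gP gP invT) iv88 = true := by decide +kernel
theorem cjP89 : allK (conjF gP gP invT) iv89 = true := by decide +kernel
theorem cjP90 : allK (conjF gP gP invT) iv90 = true := by decide +kernel
theorem cjP91 : allK (conjF gP gP invT) iv91 = true := by decide +kernel
theorem cjP92 : allK (conjF gP gP invT) iv92 = true := by decide +kernel
theorem cjP93 : allK (conjF gP gP invT) iv93 = true := by decide +kernel
theorem cjP94 : allK (conjF gP gP invT) iv94 = true := by decide +kernel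
theorem cjP95 : allK (conjF gP gP invT) iv95 = true := by decide +kernel
theorem cjP96 : allK (conjF gP gP invT) iv96 = true := by decide +kernel
theorem cjP97 : allK (conjF gP gP invT) iv97 = true := by decide +kernel
theorem cjP98 : allK (conjF gP gP invT) iv98 = true := by decide +kernel
theorem cjP99 : allK (conjF gP gP invT) iv99 = true := by decide +kernel
theorem cjP100 : allK (conjF gP gP invT) iv100 = true := by decide +kernel
theorem cjP101 : allK (conjF gP gP invT) iv101 = true := by decide +kernel
theorem cjP102 : allK (conjF gP gP invT) iv102 = true := by decide +kernel
theorem cjP103 : allK (conjF gP gP invT) iv103 = true := by decide +kernel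
theorem cjP104 : allK (conjF gP gP invT) iv104 = true := by decide +kernel
theorem cjP105 : allK (conjF gP gP invT) iv105 = true := by decide +kernel
theorem cjP106 : allK (conjF gP gP invT) iv106 = true := by decide +kernel
theorem cjP107 : allK (conjF gP gP invT) iv107 = true := by decide +kernel
theorem cjP108 : allK (conjF gP gP invT) iv108 = true := by decide +kernel
theorem cjP109 : allK (conjF gP gP invT) iv109 = true := by decide +kernel
theorem cjP110 : allK (conjF gP gP invT) iv110 = true := by decide +kernel
theorem cjP111 : allK (conjF gP gP invT) iv111 = true := by decide +kernel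
theorem cjP112 : allK (conjF gP gP invT) iv112 = true := by decide +kernel
theorem cjP113 : allK (conjF gP gP invT) iv113 = true := by decide +kernel
theorem cjP114 : allK (conjF gP gP invT) iv114 = true := by decide +kernel
theorem cjP115 : allK (conjF gP gP invT) iv115 = true := by decide +kernel
theorem cjP116 : allK (conjF gP gP invT) iv116 = true := by decide +kernel
theorem cjP117 : allK (conjF gP gP invT) iv117 = true := by decide +kernel
theorem cjP118 : allK (conjF gP gP invT) iv118 = true := by decide +kernel
theorem cjP119 : allK (conjF gP gP invT) iv119 = true := by decide +kernel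
theorem cjP120 : allK (conjF gP gP invT) iv120 = true := by decide +kernel
theorem cjP121 : allK (conjF gP gP invT) iv121 = true := by decide +kernel
theorem cjP122 : allK (conjF gP gP invT) iv122 = true := by decide +kernel
theorem cjP123 : allK (conjF gP gP invT) iv123 = true := by decide +kernel
theorem cjP124 : allK (conjF gP gP invT) iv124 = true := by decide +kernel
theorem cjP125 : allK (conjF gP gP invT) iv125 = true := by decide +kernel
theorem cjP126 : allK (conjF gP gP invT) iv126 = true := by decide +kernel
theorem cjP127 : allK (conjF gP gP invT) iv127 = true := by decide +kernel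

theorem conj_gP : allK (conjF gP gP invT) invT = true :=
  (allK_node (allK_node (allK_node (allK_node (allK_node (allK_node (allK_node cjP0 (by decide +kernel) cjP1) (by decide +kernel) (allK_node cjP2 (by decide +kernel) cjP3)) (by decide +kernel) (allK_node (allK_node cjP4 (by decide +kernel) cjP5) (by decide +kernel) (allK_node cjP6 (by decide +kernel) cjP7))) (by decide +kernel) (allK_node (allK_node (allK_node cjP8 (by decide +kernel) cjP9) (by decide +kernel) (allK_node cjP10 (by decide +kernel) cjP11)) (by decide +kernel) (allK_node (allK_node cjP12 (by decide +kernel) cjP13) (by decide +kernel) (allK_node cjP14 (by decide +kernel) cjP15)))) (by decide +kernel) (allK_node (allK_node (allK_node (allK_node cjP16 (by decide +kernel) cjP17) (by decide +kernel) (allK_node cjP18 (by decide +kernel) cjP19)) (by decide +kernel) (allK_node (allK_node cjP20 (by decide +kernel) cjP21) (by decide +kernel) (allK_node cjP22 (by decide +kernel) cjP23))) (by decide +kernel) (allK_node (allK_node (allK_node cjP24 (by decide +kernel) cjP25) (by decide +kernel) (allK_node cjP26 (by decide +kernel) cjP27)) (by decide +kernel) (allK_node (allK_node cjP28 (by decide +kernel) cjP29)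 (by decide +kernel) (allK_node cjP30 (by decide +kernel) cjP31))))) (by decide +kernel) (allK_node (allK_node (allK_node (allK_node (allK_node cjP32 (by decide +kernel) cjP33) (by decide +kernel) (allK_node cjP34 (by decide +kernel) cjP35)) (by decide +kernel) (allK_node (allK_node cjP36 (by decide +kernel) cjP37) (by decide +kernel) (allK_node cjP38 (by decide +kernel) cjP39))) (by decide +kernel) (allK_node (allK_node (allK_node cjP40 (by decide +kernel) cjP41) (by decide +kernel) (allK_node cjP42 (by decide +kernel) cjP43)) (by decide +kernel) (allK_node (allK_node cjP44 (by decide +kernel) cjP45) (by decide +kernel) (allK_node cjP46 (by decide +kernel) cjP47)))) (by decide +kernel) (allK_node (allK_node (allK_node (allK_node cjP48 (by decide +kernel) cjP49) (by decide +kernel) (allK_node cjP50 (by decide +kernel) cjP51)) (by decide +kernel) (allK_node (allK_node cjP52 (by decide +kernel) cjP53) (by decide +kernel) (allK_node cjP54 (by decide +kernel) cjP55))) (by decide +kernel) (allK_node (allK_node (allK_node cjP56 (by decide +kernel) cjP57) (by decide +kernel) (allK_node cjP58 (by decide +kernel) cjP59)) (by decide +kernel) (allK_node (allK_node cjP60 (by decide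 +kernel) cjP61) (by decide +kernel) (allK_node cjP62 (by decide +kernel) cjP63)))))) (by decide +kernel) (allK_node (allK_node (allK_node (allK_node (allK_node (allK_node cjP64 (by decide +kernel) cjP65) (by decide +kernel) (allK_node cjP66 (by decide +kernel) cjP67)) (by decide +kernel) (allK_node (allK_node cjP68 (by decide +kernel) cjP69) (by decide +kernel) (allK_node cjP70 (by decide +kernel) cjP71))) (by decide +kernel) (allK_node (allK_node (allK_node cjP72 (by decide +kernel) cjP73) (by decide +kernel) (allK_node cjP74 (by decide +kernel) cjP75)) (by decide +kernel) (allK_node (allK_node cjP76 (by decide +kernel) cjP77) (by decide +kernel) (allK_node cjP78 (by decide +kernel) cjP79)))) (by decide +kernel) (allK_node (allK_node (allK_node (allK_node cjP80 (by decide +kernel) cjP81) (by decide +kernel) (allK_node cjP82 (by decide +kernel) cjP83)) (by decide +kernel) (allK_node (allK_node cjP84 (by decide +kernel) cjP85) (by decide +kernel) (allK_node cjP86 (by decide +kernel) cjP87))) (by decide +kernel) (allK_node (allK_node (allK_node cjP88 (by decide +kernel) cjP89) (by decide +kernel) (allK_node cjP90 (by decide +kernel) cjP91)) (by decide +kernel) (allK_node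 (allK_node cjP92 (by decide +kernel) cjP93) (by decide +kernel) (allK_node cjP94 (by decide +kernel) cjP95))))) (by decide +kernel) (allK_node (allK_node (allK_node (allK_node (allK_node cjP96 (by decide +kernel) cjP97) (by decide +kernel) (allK_node cjP98 (by decide +kernel) cjP99)) (by decide +kernel) (allK_node (allK_node cjP100 (by decide +kernel) cjP101) (by decide +kernel) (allK_node cjP102 (by decide +kernel) cjP103))) (by decide +kernel) (allK_node (allK_node (allK_node cjP104 (by decide +kernel) cjP105) (by decide +kernel) (allK_node cjP106 (by decide +kernel) cjP107)) (by decide +kernel) (allK_node (allK_node cjP108 (by decide +kernel) cjP109) (by decide +kernel) (allK_node cjP110 (by decide +kernel) cjP111)))) (by decide +kernel) (allK_node (allK_node (allK_node (allK_node cjP112 (by decide +kernel) cjP113) (by decide +kernel) (allK_node cjP114 (by decide +kernel) cjP115)) (by decide +kernel) (allK_node (allK_node cjP116 (by decide +kernel) cjP117) (by decide +kernel) (allK_node cjP118 (by decide +kernel) cjP119))) (by decide +kernel) (allK_node (allK_node (allK_node cjP120 (by decide +kernel) cjP121) (by decide +kernel) (allK_node cjP122 (by decide +kernel)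 cjP123)) (by decide +kernel) (allK_node (allK_node cjP124 (by decide +kernel) cjP125) (by decide +kernel) (allK_node cjP126 (by decide +kernel) cjP127)))))))

end Cfsg.Agent.Lib.Compute.SB
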