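import Cfsg.Agent.Lib.Compute.SB.InvMem

/-!
# The tree of involutions is invariant under conjugation by a generator of `M24`
-/

set_option autoImplicit false
set_option Elab.async false
set_option maxRecDepth 100000

namespace Cfsg.Agent.Lib.Compute.SB

open PTree

/-- The first generator. -/
def gS : ℕ := nat_lit 956302485175575353788796878166559809
/-- The inverse of the first generator. -/
def gSi : ℕ := nat_lit 983478296959358443554250846857397270
/-- The second generator, an involution. -/
def gP : ℕ := nat_lit 1795248432537898728475572672376535
/-- The third generator. -/
def gC : ℕ := nat_lit 974380510768821363662145534143076928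
/-- The inverse of the third generator. -/
def gCi : ℕ := nat_lit 980275914351787324191492553553580224

/-- The invariance at a key. -/
noncomputable def conjF (g gi : ℕ) (T : PTree) (n : ℕ) : Bool :=
  forceL (mulF (mulF g n) gi) fun m => find m T

theorem cjS0 : allK (conjF gS gSi invT) iv0 = true := by decide +kernel
theorem cjS1 : allK (conjF gS gSi invT) iv1 = true := by decide +kernel
theorem cjS2 : allK (conjF gS gSi invT) iv2 = true := by decide +kernel
theorem cjS3 : allK (conjF gS gSi invT) iv3 = true := by decide +kernel
theorem cjS4 : allK (conjF gS gSi invT) iv4 = true := by decide +kernel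
theorem cjS5 : allK (conjF gS gSi invT) iv5 = true := by decide +kernel
theorem cjS6 : allK (conjF gS gSi invT) iv6 = true := by decide +kernel
theorem cjS7 : allK (conjF gS gSi invT) iv7 = true := by decide +kernel
theorem cjS8 : allK (conjF gS gSi invT) iv8 = true := by decide +kernel
theorem cjS9 : allK (conjF gS gSi invT) iv9 = true := by decide +kernel
theorem cjS10 : allK (conjF gS gSi invT) iv10 = true := by decide +kernel
theorem cjS11 : allK (conjF gS gSi invT) iv11 = true := by decide +kernel
theorem cjS12 : allK (conjF gS gSi invT) iv12 = true := by decide +kernel
theorem cjS13 : allK (conjF gS gSi invT) iv13 = true := by decide +kernel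
theorem cjS14 : allK (conjF gS gSi invT) iv14 = true := by decide +kernel
theorem cjS15 : allK (conjF gS gSi invT) iv15 = true := by decide +kernel
theorem cjS16 : allK (conjF gS gSi invT) iv16 = true := by decide +kernel
theorem cjS17 : allK (conjF gS gSi invT) iv17 = true := by decide +kernel
theorem cjS18 : allK (conjF gS gSi invT) iv18 = true := by decide +kernel
theorem cjS19 : allK (conjF gS gSi invT) iv19 = true := by decide +kernel
theorem cjS20 : allK (conjF gS gSi invT) iv20 = true := by decide +kernel
theorem cjS21 : allK (conjF gS gSi invT) iv21 = true := by decide +kernel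
theorem cjS22 : allK (conjF gS gSi invT) iv22 = true := by decide +kernel
theorem cjS23 : allK (conjF gS gSi invT) iv23 = true := by decide +kernel
theorem cjS24 : allK (conjF gS gSi invT) iv24 = true := by decide +kernel
theorem cjS25 : allK (conjF gS gSi invT) iv25 = true := by decide +kernel
theorem cjS26 : allK (conjF gS gSi invT) iv26 = true := by decide +kernel
theorem cjS27 : allK (conjF gS gSi invT) iv27 = true := by decide +kernel
theorem cjS28 : allK (conjF gS gSi invT) iv28 = true := by decide +kernel
theorem cjS29 : allK (conjF gS gSi invT) iv29 = true := by decide +kernel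
theorem cjS30 : allK (conjF gS gSi invT) iv30 = true := by decide +kernel
theorem cjS31 : allK (conjF gS gSi invT) iv31 = true := by decide +kernel
theorem cjS32 : allK (conjF gS gSi invT) iv32 = true := by decide +kernel
theorem cjS33 : allK (conjF gS gSi invT) iv33 = true := by decide +kernel
theorem cjS34 : allK (conjF gS gSi invT) iv34 = true := by decide +kernel
theorem cjS35 : allK (conjF gS gSi invT) iv35 = true := by decide +kernel
theorem cjS36 : allK (conjF gS gSi invT) iv36 = true := by decide +kernel
theorem cjS37 : allK (conjF gS gSi invT) iv37 = true := by decide +kernel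
theorem cjS38 : allK (conjF gS gSi invT) iv38 = true := by decide +kernel
theorem cjS39 : allK (conjF gS gSi invT) iv39 = true := by decide +kernel
theorem cjS40 : allK (conjF gS gSi invT) iv40 = true := by decide +kernel
theorem cjS41 : allK (conjF gS gSi invT) iv41 = true := by decide +kernel
theorem cjS42 : allK (conjF gS gSi invT) iv42 = true := by decide +kernel
theorem cjS43 : allK (conjF gS gSi invT) iv43 = true := by decide +kernel
theorem cjS44 : allK (conjF gS gSi invT) iv44 = true := by decide +kernel
theorem cjS45 : allK (conjF gS gSi invT) iv45 = true := by decide +kernel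
theorem cjS46 : allK (conjF gS gSi invT) iv46 = true := by decide +kernel
theorem cjS47 : allK (conjF gS gSi invT) iv47 = true := by decide +kernel
theorem cjS48 : allK (conjF gS gSi invT) iv48 = true := by decide +kernel
theorem cjS49 : allK (conjF gS gSi invT) iv49 = true := by decide +kernel
theorem cjS50 : allK (conjF gS gSi invT) iv50 = true := by decide +kernel
theorem cjS51 : allK (conjF gS gSi invT) iv51 = true := by decide +kernel
theorem cjS52 : allK (conjF gS gSi invT) iv52 = true := by decide +kernel
theorem cjS53 : allK (conjF gS gSi invT) iv53 = true := by decide +kernel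
theorem cjS54 : allK (conjF gS gSi invT) iv54 = true := by decide +kernel
theorem cjS55 : allK (conjF gS gSi invT) iv55 = true := by decide +kernel
theorem cjS56 : allK (conjF gS gSi invT) iv56 = true := by decide +kernel
theorem cjS57 : allK (conjF gS gSi invT) iv57 = true := by decide +kernel
theorem cjS58 : allK (conjF gS gSi invT) iv58 = true := by decide +kernel
theorem cjS59 : allK (conjF gS gSi invT) iv59 = true := by decide +kernel
theorem cjS60 : allK (conjF gS gSi invT) iv60 = true := by decide +kernel
theorem cjS61 : allK (conjF gS gSi invT) iv61 = true := by decide +kernel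
theorem cjS62 : allK (conjF gS gSi invT) iv62 = true := by decide +kernel
theorem cjS63 : allK (conjF gS gSi invT) iv63 = true := by decide +kernel
theorem cjS64 : allK (conjF gS gSi invT) iv64 = true := by decide +kernel
theorem cjS65 : allK (conjF gS gSi invT) iv65 = true := by decide +kernel
theorem cjS66 : allK (conjF gS gSi invT) iv66 = true := by decide +kernel
theorem cjS67 : allK (conjF gS gSi invT) iv67 = true := by decide +kernel
theorem cjS68 : allK (conjF gS gSi invT) iv68 = true := by decide +kernel
theorem cjS69 : allK (conjF gS gSi invT) iv69 = true := by decide +kernel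
theorem cjS70 : allK (conjF gS gSi invT) iv70 = true := by decide +kernel
theorem cjS71 : allK (conjF gS gSi invT) iv71 = true := by decide +kernel
theorem cjS72 : allK (conjF gS gSi invT) iv72 = true := by decide +kernel
theorem cjS73 : allK (conjF gS gSi invT) iv73 = true := by decide +kernel
theorem cjS74 : allK (conjF gS gSi invT) iv74 = true := by decide +kernel
theorem cjS75 : allK (conjF gS gSi invT) iv75 = true := by decide +kernel
theorem cjS76 : allK (conjF gS gSi invT) iv76 = true := by decide +kernel
theorem cjS77 : allK (conjF gS gSi invT) iv77 = true := by decide +kernel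
theorem cjS78 : allK (conjF gS gSi invT) iv78 = true := by decide +kernel
theorem cjS79 : allK (conjF gS gSi invT) iv79 = true := by decide +kernel
theorem cjS80 : allK (conjF gS gSi invT) iv80 = true := by decide +kernel
theorem cjS81 : allK (conjF gS gSi invT) iv81 = true := by decide +kernel
theorem cjS82 : allK (conjF gS gSi invT) iv82 = true := by decide +kernel
theorem cjS83 : allK (conjF gS gSi invT) iv83 = true := by decide +kernel
theorem cjS84 : allK (conjF gS gSi invT) iv84 = true := by decide +kernel
theorem cjS85 : allK (conjF gS gSi invT) iv85 = true := by decide +kernel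
theorem cjS86 : allK (conjF gS gSi invT) iv86 = true := by decide +kernel
theorem cjS87 : allK (conjF gS gSi invT) iv87 = true := by decide +kernel
theorem cjS88 : allK (conjF gS gSi invT) iv88 = true := by decide +kernel
theorem cjS89 : allK (conjF gS gSi invT) iv89 = true := by decide +kernel
theorem cjS90 : allK (conjF gS gSi invT) iv90 = true := by decide +kernel
theorem cjS91 : allK (conjF gS gSi invT) iv91 = true := by decide +kernel
theorem cjS92 : allK (conjF gS gSi invT) iv92 = true := by decide +kernel
theorem cjS93 : allK (conjF gS gSi invT) iv93 = true := by decide +kernel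
theorem cjS94 : allK (conjF gS gSi invT) iv94 = true := by decide +kernel
theorem cjS95 : allK (conjF gS gSi invT) iv95 = true := by decide +kernel
theorem cjS96 : allK (conjF gS gSi invT) iv96 = true := by decide +kernel
theorem cjS97 : allK (conjF gS gSi invT) iv97 = true := by decide +kernel
theorem cjS98 : allK (conjF gS gSi invT) iv98 = true := by decide +kernel
theorem cjS99 : allK (conjF gS gSi invT) iv99 = true := by decide +kernel
theorem cjS100 : allK (conjF gS gSi invT) iv100 = true := by decide +kernel
theorem cjS101 : allK (conjF gS gSi invT) iv101 = true := by decide +kernel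
theorem cjS102 : allK (conjF gS gSi invT) iv102 = true := by decide +kernel
theorem cjS103 : allK (conjF gS gSi invT) iv103 = true := by decide +kernel
theorem cjS104 : allK (conjF gS gSi invT) iv104 = true := by decide +kernel
theorem cjS105 : allK (conjF gS gSi invT) iv105 = true := by decide +kernel
theorem cjS106 : allK (conjF gS gSi invT) iv106 = true := by decide +kernel
theorem cjS107 : allK (conjF gS gSi invT) iv107 = true := by decide +kernel
theorem cjS108 : allK (conjF gS gSi invT) iv108 = true := by decide +kernel
theorem cjS109 : allK (conjF gS gSi invT) iv109 = true := by decide +kernel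
theorem cjS110 : allK (conjF gS gSi invT) iv110 = true := by decide +kernel
theorem cjS111 : allK (conjF gS gSi invT) iv111 = true := by decide +kernel
theorem cjS112 : allK (conjF gS gSi invT) iv112 = true := by decide +kernel
theorem cjS113 : allK (conjF gS gSi invT) iv113 = true := by decide +kernel
theorem cjS114 : allK (conjF gS gSi invT) iv114 = true := by decide +kernel
theorem cjS115 : allK (conjF gS gSi invT) iv115 = true := by decide +kernel
theorem cjS116 : allK (conjF gS gSi invT) iv116 = true := by decide +kernel
theorem cjS117 : allK (conjF gS gSi invT) iv117 = true := by decide +kernel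
theorem cjS118 : allK (conjF gS gSi invT) iv118 = true := by decide +kernel
theorem cjS119 : allK (conjF gS gSi invT) iv119 = true := by decide +kernel
theorem cjS120 : allK (conjF gS gSi invT) iv120 = true := by decide +kernel
theorem cjS121 : allK (conjF gS gSi invT) iv121 = true := by decide +kernel
theorem cjS122 : allK (conjF gS gSi invT) iv122 = true := by decide +kernel
theorem cjS123 : allK (conjF gS gSi invT) iv123 = true := by decide +kernel
theorem cjS124 : allK (conjF gS gSi invT) iv124 = true := by decide +kernel
theorem cjS125 : allK (conjF gS gSi invT) iv125 = true := by decide +kernel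
theorem cjS126 : allK (conjF gS gSi invT) iv126 = true := by decide +kernel
theorem cjS127 : allK (conjF gS gSi invT) iv127 = true := by decide +kernel

theorem conj_gS : allK (conjF gS gSi invT) invT = true :=
  (allK_node (allK_node (allK_node (allK_node (allK_node (allK_node (allK_node cjS0 (by decide +kernel) cjS1) (by decide +kernel) (allK_node cjS2 (by decide +kernel) cjS3)) (by decide +kernel) (allK_node (allK_node cjS4 (by decide +kernel) cjS5) (by decide +kernel) (allK_node cjS6 (by decide +kernel) cjS7))) (by decide +kernel) (allK_node (allK_node (allK_node cjS8 (by decide +kernel) cjS9) (by decide +kernel) (allK_node cjS10 (by decide +kernel) cjS11)) (by decide +kernel) (allK_node (allK_node cjS12 (by decide +kernel) cjS13) (by decide +kernel) (allK_node cjS14 (by decide +kernel) cjS15)))) (by decide +kernel) (allK_node (allK_node (allK_node (allK_node cjS16 (by decide +kernel) cjS17) (by decide +kernel) (allK_node cjS18 (by decide +kernel) cjS19)) (by decide +kernel) (allK_node (allK_node cjS20 (by decide +kernel) cjS21) (by decide +kernel) (allK_node cjS22 (by decide +kernel) cjS23))) (by decide +kernel) (allK_node (allK_node (allK_node cjS24 (by decide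 +kernel) cjS25) (by decide +kernel) (allK_node cjS26 (by decide +kernel) cjS27)) (by decide +kernel) (allK_node (allK_node cjS28 (by decide +kernel) cjS29) (by decide +kernel) (allK_node cjS30 (by decide +kernel) cjS31))))) (by decide +kernel) (allK_node (allK_node (allK_node (allK_node (allK_node cjS32 (by decide +kernel) cjS33) (by decide +kernel) (allK_node cjS34 (by decide +kernel) cjS35)) (by decide +kernel) (allK_node (allK_node cjS36 (by decide +kernel) cjS37) (by decide +kernel) (allK_node cjS38 (by decide +kernel) cjS39))) (by decide +kernel) (allK_node (allK_node (allK_node cjS40 (by decide +kernel) cjS41) (by decide +kernel) (allK_node cjS42 (by decide +kernel) cjS43)) (by decide +kernel) (allK_node (allK_node cjS44 (by decide +kernel) cjS45) (by decide +kernel) (allK_node cjS46 (by decide +kernel) cjS47)))) (by decide +kernel) (allK_node (allK_node (allK_node (allK_node cjS48 (by decide +kernel) cjS49) (by decide +kernel) (allK_node cjS50 (by decide +kernel) cjS51)) (by decide +kernel) (allK_node (allK_node cjS52 (by decide +kernel) cjS53) (by decide +kernel) (allK_node cjS54 (by decide +kernel) cjS55))) (by decide +kernel) (allK_node (allK_node (allK_node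 cjS56 (by decide +kernel) cjS57) (by decide +kernel) (allK_node cjS58 (by decide +kernel) cjS59)) (by decide +kernel) (allK_node (allK_node cjS60 (by decide +kernel) cjS61) (by decide +kernel) (allK_node cjS62 (by decide +kernel) cjS63)))))) (by decide +kernel) (allK_node (allK_node (allK_node (allK_node (allK_node (allK_node cjS64 (by decide +kernel) cjS65) (by decide +kernel) (allK_node cjS66 (by decide +kernel) cjS67)) (by decide +kernel) (allK_node (allK_node cjS68 (by decide +kernel) cjS69) (by decide +kernel) (allK_node cjS70 (by decide +kernel) cjS71))) (by decide +kernel) (allK_node (allK_node (allK_node cjS72 (by decide +kernel) cjS73) (by decide +kernel) (allK_node cjS74 (by decide +kernel) cjS75)) (by decide +kernel) (allK_node (allK_node cjS76 (by decide +kernel) cjS77) (by decide +kernel) (allK_node cjS78 (by decide +kernel) cjS79)))) (by decide +kernel) (allK_node (allK_node (allK_node (allK_node cjS80 (by decide +kernel) cjS81) (by decide +kernel) (allK_node cjS82 (by decide +kernel) cjS83)) (by decide +kernel) (allK_node (allK_node cjS84 (by decide +kernel) cjS85) (by decide +kernel) (allK_node cjS86 (by decide +kernel) cjS87))) (by decide +kernel)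 (allK_node (allK_node (allK_node cjS88 (by decide +kernel) cjS89) (by decide +kernel) (allK_node cjS90 (by decide +kernel) cjS91)) (by decide +kernel) (allK_node (allK_node cjS92 (by decide +kernel) cjS93) (by decide +kernel) (allK_node cjS94 (by decide +kernel) cjS95))))) (by decide +kernel) (allK_node (allK_node (allK_node (allK_node (allK_node cjS96 (by decide +kernel) cjS97) (by decide +kernel) (allK_node cjS98 (by decide +kernel) cjS99)) (by decide +kernel) (allK_node (allK_node cjS100 (by decide +kernel) cjS101) (by decide +kernel) (allK_node cjS102 (by decide +kernel) cjS103))) (by decide +kernel) (allK_node (allK_node (allK_node cjS104 (by decide +kernel) cjS105) (by decide +kernel) (allK_node cjS106 (by decide +kernel) cjS107)) (by decide +kernel) (allK_node (allK_node cjS108 (by decide +kernel) cjS109) (by decide +kernel) (allK_node cjS110 (by decide +kernel) cjS111)))) (by decide +kernel) (allK_node (allK_node (allK_node (allK_node cjS112 (by decide +kernel) cjS113) (by decide +kernel) (allK_node cjS114 (by decide +kernel) cjS115)) (by decide +kernel) (allK_node (allK_node cjS116 (by decide +kernel) cjS117) (by decide +kernel) (allK_node cjS118 (by decide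 +kernel) cjS119))) (by decide +kernel) (allK_node (allK_node (allK_node cjS120 (by decide +kernel) cjS121) (by decide +kernel) (allK_node cjS122 (by decide +kernel) cjS123)) (by decide +kernel) (allK_node (allK_node cjS124 (by decide +kernel) cjS125) (by decide +kernel) (allK_node cjS126 (by decide +kernel) cjS127)))))))

end Cfsg.Agent.Lib.Compute.SB
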