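import Cfsg.Agent.Lib.Compute.SB.InvData
import Cfsg.Agent.Lib.Compute.SB.Chunk

/-!
# The elements of the tree of involutions lie in `M24` and square to the identity
-/

set_option autoImplicit false
set_option Elab.async false
set_option maxRecDepth 100000

namespace Cfsg.Agent.Lib.Compute.SB

open PTree

/-- The test on the keys. -/
noncomputable def fInv (n : ℕ) : Bool := memF n && Nat.beq (mulF n n) idP

theorem invOK0 : allK fInv iv0 = true := by decide +kernel
theorem invOK1 : allK fInv iv1 = true := by decide +kernel
theorem invOK2 : allK fInv iv2 = true := by decide +kernel
theorem invOK3 : allK fInv iv3 = true := by decide +kernel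
theorem invOK4 : allK fInv iv4 = true := by decide +kernel
theorem invOK5 : allK fInv iv5 = true := by decide +kernel
theorem invOK6 : allK fInv iv6 = true := by decide +kernel
theorem invOK7 : allK fInv iv7 = true := by decide +kernel
theorem invOK8 : allK fInv iv8 = true := by decide +kernel
theorem invOK9 : allK fInv iv9 = true := by decide +kernel
theorem invOK10 : allK fInv iv10 = true := by decide +kernel
theorem invOK11 : allK fInv iv11 = true := by decide +kernel
theorem invOK12 : allK fInv iv12 = true := by decide +kernel
theorem invOK13 : allK fInv iv13 = true := by decide +kernel
theorem invOK14 : allK fInv iv14 = true := by decide +kernel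
theorem invOK15 : allK fInv iv15 = true := by decide +kernel
theorem invOK16 : allK fInv iv16 = true := by decide +kernel
theorem invOK17 : allK fInv iv17 = true := by decide +kernel
theorem invOK18 : allK fInv iv18 = true := by decide +kernel
theorem invOK19 : allK fInv iv19 = true := by decide +kernel
theorem invOK20 : allK fInv iv20 = true := by decide +kernel
theorem invOK21 : allK fInv iv21 = true := by decide +kernel
theorem invOK22 : allK fInv iv22 = true := by decide +kernel
theorem invOK23 : allK fInv iv23 = true := by decide +kernel
theorem invOK24 : allK fInv iv24 = true := by decide +kernel
theorem invOK25 : allK fInv iv25 = true := by decide +kernel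
theorem invOK26 : allK fInv iv26 = true := by decide +kernel
theorem invOK27 : allK fInv iv27 = true := by decide +kernel
theorem invOK28 : allK fInv iv28 = true := by decide +kernel
theorem invOK29 : allK fInv iv29 = true := by decide +kernel
theorem invOK30 : allK fInv iv30 = true := by decide +kernel
theorem invOK31 : allK fInv iv31 = true := by decide +kernel
theorem invOK32 : allK fInv iv32 = true := by decide +kernel
theorem invOK33 : allK fInv iv33 = true := by decide +kernel
theorem invOK34 : allK fInv iv34 = true := by decide +kernel
theorem invOK35 : allK fInv iv35 = true := by decide +kernel
theorem invOK36 : allK fInv iv36 = true := by decide +kernel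
theorem invOK37 : allK fInv iv37 = true := by decide +kernel
theorem invOK38 : allK fInv iv38 = true := by decide +kernel
theorem invOK39 : allK fInv iv39 = true := by decide +kernel
theorem invOK40 : allK fInv iv40 = true := by decide +kernel
theorem invOK41 : allK fInv iv41 = true := by decide +kernel
theorem invOK42 : allK fInv iv42 = true := by decide +kernel
theorem invOK43 : allK fInv iv43 = true := by decide +kernel
theorem invOK44 : allK fInv iv44 = true := by decide +kernel
theorem invOK45 : allK fInv iv45 = true := by decide +kernel
theorem invOK46 : allK fInv iv46 = true := by decide +kernel
theorem invOK47 : allK fInv iv47 = true := by decide +kernel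
theorem invOK48 : allK fInv iv48 = true := by decide +kernel
theorem invOK49 : allK fInv iv49 = true := by decide +kernel
theorem invOK50 : allK fInv iv50 = true := by decide +kernel
theorem invOK51 : allK fInv iv51 = true := by decide +kernel
theorem invOK52 : allK fInv iv52 = true := by decide +kernel
theorem invOK53 : allK fInv iv53 = true := by decide +kernel
theorem invOK54 : allK fInv iv54 = true := by decide +kernel
theorem invOK55 : allK fInv iv55 = true := by decide +kernel
theorem invOK56 : allK fInv iv56 = true := by decide +kernel
theorem invOK57 : allK fInv iv57 = true := by decide +kernel
theorem invOK58 : allK fInv iv58 = true := by decide +kernel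
theorem invOK59 : allK fInv iv59 = true := by decide +kernel
theorem invOK60 : allK fInv iv60 = true := by decide +kernel
theorem invOK61 : allK fInv iv61 = true := by decide +kernel
theorem invOK62 : allK fInv iv62 = true := by decide +kernel
theorem invOK63 : allK fInv iv63 = true := by decide +kernel
theorem invOK64 : allK fInv iv64 = true := by decide +kernel
theorem invOK65 : allK fInv iv65 = true := by decide +kernel
theorem invOK66 : allK fInv iv66 = true := by decide +kernel
theorem invOK67 : allK fInv iv67 = true := by decide +kernel
theorem invOK68 : allK fInv iv68 = true := by decide +kernel
theorem invOK69 : allK fInv iv69 = true := by decide +kernel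
theorem invOK70 : allK fInv iv70 = true := by decide +kernel
theorem invOK71 : allK fInv iv71 = true := by decide +kernel
theorem invOK72 : allK fInv iv72 = true := by decide +kernel
theorem invOK73 : allK fInv iv73 = true := by decide +kernel
theorem invOK74 : allK fInv iv74 = true := by decide +kernel
theorem invOK75 : allK fInv iv75 = true := by decide +kernel
theorem invOK76 : allK fInv iv76 = true := by decide +kernel
theorem invOK77 : allK fInv iv77 = true := by decide +kernel
theorem invOK78 : allK fInv iv78 = true := by decide +kernel
theorem invOK79 : allK fInv iv79 = true := by decide +kernel
theorem invOK80 : allK fInv iv80 = true := by decide +kernel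
theorem invOK81 : allK fInv iv81 = true := by decide +kernel
theorem invOK82 : allK fInv iv82 = true := by decide +kernel
theorem invOK83 : allK fInv iv83 = true := by decide +kernel
theorem invOK84 : allK fInv iv84 = true := by decide +kernel
theorem invOK85 : allK fInv iv85 = true := by decide +kernel
theorem invOK86 : allK fInv iv86 = true := by decide +kernel
theorem invOK87 : allK fInv iv87 = true := by decide +kernel
theorem invOK88 : allK fInv iv88 = true := by decide +kernel
theorem invOK89 : allK fInv iv89 = true := by decide +kernel
theorem invOK90 : allK fInv iv90 = true := by decide +kernel
theorem invOK91 : allK fInv iv91 = true := by decide +kernel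
theorem invOK92 : allK fInv iv92 = true := by decide +kernel
theorem invOK93 : allK fInv iv93 = true := by decide +kernel
theorem invOK94 : allK fInv iv94 = true := by decide +kernel
theorem invOK95 : allK fInv iv95 = true := by decide +kernel
theorem invOK96 : allK fInv iv96 = true := by decide +kernel
theorem invOK97 : allK fInv iv97 = true := by decide +kernel
theorem invOK98 : allK fInv iv98 = true := by decide +kernel
theorem invOK99 : allK fInv iv99 = true := by decide +kernel
theorem invOK100 : allK fInv iv100 = true := by decide +kernel
theorem invOK101 : allK fInv iv101 = true := by decide +kernel
theorem invOK102 : allK fInv iv102 = true := by decide +kernel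
theorem invOK103 : allK fInv iv103 = true := by decide +kernel
theorem invOK104 : allK fInv iv104 = true := by decide +kernel
theorem invOK105 : allK fInv iv105 = true := by decide +kernel
theorem invOK106 : allK fInv iv106 = true := by decide +kernel
theorem invOK107 : allK fInv iv107 = true := by decide +kernel
theorem invOK108 : allK fInv iv108 = true := by decide +kernel
theorem invOK109 : allK fInv iv109 = true := by decide +kernel
theorem invOK110 : allK fInv iv110 = true := by decide +kernel
theorem invOK111 : allK fInv iv111 = true := by decide +kernel
theorem invOK112 : allK fInv iv112 = true := by decide +kernel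
theorem invOK113 : allK fInv iv113 = true := by decide +kernel
theorem invOK114 : allK fInv iv114 = true := by decide +kernel
theorem invOK115 : allK fInv iv115 = true := by decide +kernel
theorem invOK116 : allK fInv iv116 = true := by decide +kernel
theorem invOK117 : allK fInv iv117 = true := by decide +kernel
theorem invOK118 : allK fInv iv118 = true := by decide +kernel
theorem invOK119 : allK fInv iv119 = true := by decide +kernel
theorem invOK120 : allK fInv iv120 = true := by decide +kernel
theorem invOK121 : allK fInv iv121 = true := by decide +kernel
theorem invOK122 : allK fInv iv122 = true := by decide +kernel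
theorem invOK123 : allK fInv iv123 = true := by decide +kernel
theorem invOK124 : allK fInv iv124 = true := by decide +kernel
theorem invOK125 : allK fInv iv125 = true := by decide +kernel
theorem invOK126 : allK fInv iv126 = true := by decide +kernel
theorem invOK127 : allK fInv iv127 = true := by decide +kernel

theorem invT_ok : allK fInv invT = true :=
  (allK_node (allK_node (allK_node (allK_node (allK_node (allK_node (allK_node invOK0 (by decide +kernel) invOK1) (by decide +kernel) (allK_node invOK2 (by decide +kernel) invOK3)) (by decide +kernel) (allK_node (allK_node invOK4 (by decide +kernel) invOK5) (by decide +kernel) (allK_node invOK6 (by decide +kernel) invOK7))) (by decide +kernel) (allK_node (allK_node (allK_node invOK8 (by decide +kernel) invOK9) (by decide +kernel) (allK_node invOK10 (by decide +kernel) invOK11)) (by decide +kernel) (allK_node (allK_node invOK12 (by decide +kernel) invOK13) (by decide +kernel) (allK_node invOK14 (by decide +kernel) invOK15)))) (by decide +kernel) (allK_node (allK_node (allK_node (allK_node invOK16 (by decide +kernel) invOK17) (by decide +kernel) (allK_node invOK18 (by decide +kernel) invOK19)) (by decide +kernel) (allK_node (allK_node invOK20 (by decide +kernel) invOK21) (by decide +kernel)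 (allK_node invOK22 (by decide +kernel) invOK23))) (by decide +kernel) (allK_node (allK_node (allK_node invOK24 (by decide +kernel) invOK25) (by decide +kernel) (allK_node invOK26 (by decide +kernel) invOK27)) (by decide +kernel) (allK_node (allK_node invOK28 (by decide +kernel) invOK29) (by decide +kernel) (allK_node invOK30 (by decide +kernel) invOK31))))) (by decide +kernel) (allK_node (allK_node (allK_node (allK_node (allK_node invOK32 (by decide +kernel) invOK33) (by decide +kernel) (allK_node invOK34 (by decide +kernel) invOK35)) (by decide +kernel) (allK_node (allK_node invOK36 (by decide +kernel) invOK37) (by decide +kernel) (allK_node invOK38 (by decide +kernel) invOK39))) (by decide +kernel) (allK_node (allK_node (allK_node invOK40 (by decide +kernel) invOK41) (by decide +kernel) (allK_node invOK42 (by decide +kernel) invOK43)) (by decide +kernel) (allK_node (allK_node invOK44 (by decide +kernel) invOK45) (by decide +kernel) (allK_node invOK46 (by decide +kernel) invOK47)))) (by decide +kernel) (allK_node (allK_node (allK_node (allK_node invOK48 (by decide +kernel) invOK49) (by decide +kernel) (allK_node invOK50 (by decide +kernel) invOK51)) (by decide +kernel) (allK_node (allK_node invOK52 (by decide +kernel) invOK53) (by decide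 +kernel) (allK_node invOK54 (by decide +kernel) invOK55))) (by decide +kernel) (allK_node (allK_node (allK_node invOK56 (by decide +kernel) invOK57) (by decide +kernel) (allK_node invOK58 (by decide +kernel) invOK59)) (by decide +kernel) (allK_node (allK_node invOK60 (by decide +kernel) invOK61) (by decide +kernel) (allK_node invOK62 (by decide +kernel) invOK63)))))) (by decide +kernel) (allK_node (allK_node (allK_node (allK_node (allK_node (allK_node invOK64 (by decide +kernel) invOK65) (by decide +kernel) (allK_node invOK66 (by decide +kernel) invOK67)) (by decide +kernel) (allK_node (allK_node invOK68 (by decide +kernel) invOK69) (by decide +kernel) (allK_node invOK70 (by decide +kernel) invOK71))) (by decide +kernel) (allK_node (allK_node (allK_node invOK72 (by decide +kernel) invOK73) (by decide +kernel) (allK_node invOK74 (by decide +kernel) invOK75)) (by decide +kernel) (allK_node (allK_node invOK76 (by decide +kernel) invOK77) (by decide +kernel) (allK_node invOK78 (by decide +kernel) invOK79)))) (by decide +kernel) (allK_node (allK_node (allK_node (allK_node invOK80 (by decide +kernel) invOK81) (by decide +kernel) (allK_node invOK82 (by decide +kernel) invOK83)) (by decide +kernel) (allK_node (allK_node invOK84 (by decide +kernel)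 invOK85) (by decide +kernel) (allK_node invOK86 (by decide +kernel) invOK87))) (by decide +kernel) (allK_node (allK_node (allK_node invOK88 (by decide +kernel) invOK89) (by decide +kernel) (allK_node invOK90 (by decide +kernel) invOK91)) (by decide +kernel) (allK_node (allK_node invOK92 (by decide +kernel) invOK93) (by decide +kernel) (allK_node invOK94 (by decide +kernel) invOK95))))) (by decide +kernel) (allK_node (allK_node (allK_node (allK_node (allK_node invOK96 (by decide +kernel) invOK97) (by decide +kernel) (allK_node invOK98 (by decide +kernel) invOK99)) (by decide +kernel) (allK_node (allK_node invOK100 (by decide +kernel) invOK101) (by decide +kernel) (allK_node invOK102 (by decide +kernel) invOK103))) (by decide +kernel) (allK_node (allK_node (allK_node invOK104 (by decide +kernel) invOK105) (by decide +kernel) (allK_node invOK106 (by decide +kernel) invOK107)) (by decide +kernel) (allK_node (allK_node invOK108 (by decide +kernel) invOK109) (by decide +kernel) (allK_node invOK110 (by decide +kernel) invOK111)))) (by decide +kernel) (allK_node (allK_node (allK_node (allK_node invOK112 (by decide +kernel) invOK113) (by decide +kernel) (allK_node invOK114 (by decide +kernel) invOK115)) (by decide +kernel) (allK_node (allK_node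 invOK116 (by decide +kernel) invOK117) (by decide +kernel) (allK_node invOK118 (by decide +kernel) invOK119))) (by decide +kernel) (allK_node (allK_node (allK_node invOK120 (by decide +kernel) invOK121) (by decide +kernel) (allK_node invOK122 (by decide +kernel) invOK123)) (by decide +kernel) (allK_node (allK_node invOK124 (by decide +kernel) invOK125) (by decide +kernel) (allK_node invOK126 (by decide +kernel) invOK127)))))))

set_option maxHeartbeats 0 in
theorem invT_bdd : invT.bdd 0 (2 ^ 120) = true := by decide +kernel

end Cfsg.Agent.Lib.Compute.SB
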